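import Mathlib
import Groth.Prelude.Def_LinTop
import Groth.Prelude.Def_W4stk3formalspacesTaut

/-!
Linearly topologized rings: ideals of definition, topological nilpotence, series.
-/

namespace Groth.Agent.LinTopLib

universe u v

open Filter Topology

section Group

theorem isOpen_mono {A : Type u} [CommRing A] [TopologicalSpace A] [IsTopologicalRing A]
    {I J : Ideal A} (h : I ≤ J) (hI : IsOpen (I : Set A)) : IsOpen (J : Set A) :=
  AddSubgroup.isOpen_mono (H₁ := I.toAddSubgroup) (H₂ := J.toAddSubgroup) h hI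

theorem isClosed_of_isOpen {A : Type u} [CommRing A] [TopologicalSpace A] [IsTopologicalRing A]
    {I : Ideal A} (hI : IsOpen (I : Set A)) : IsClosed (I : Set A) :=
  AddSubgroup.isClosed_of_isOpen I.toAddSubgroup hI

theorem closure_le {A : Type u} [CommRing A] [TopologicalSpace A] [IsTopologicalRing A]
    {I J : Ideal A} (h : I ≤ J) (hJ : IsClosed (J : Set A)) : I.closure ≤ J :=
  closure_minimal h hJ

theorem closure_mono {A : Type u} [CommRing A] [TopologicalSpace A] [IsTopologicalRing A]
    {I J : Ideal A} (h : I ≤ J) : I.closure ≤ J.closure :=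
  _root_.closure_mono (s := (I : Set A)) (t := (J : Set A)) h

theorem le_closure {A : Type u} [CommRing A] [TopologicalSpace A] [IsTopologicalRing A]
    (I : Ideal A) : I ≤ I.closure :=
  subset_closure

theorem closure_mul_le {A : Type u} [CommRing A] [TopologicalSpace A] [IsTopologicalRing A]
    (I J : Ideal A) : I.closure * J.closure ≤ (I * J).closure :=
  Ideal.mul_le.2 fun _ hx _ hy =>
    map_mem_closure₂ continuous_mul hx hy fun _ ha _ hb => Ideal.mul_mem_mul ha hb

theorem closure_pow_le {A : Type u} [CommRing A] [TopologicalSpace A] [IsTopologicalRing A]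
    (I : Ideal A) (n : ℕ) : I.closure ^ n ≤ (I ^ n).closure := by
  induction n with
  | zero => simpa using le_closure (⊤ : Ideal A)
  | succ n ih =>
    rw [pow_succ, pow_succ]
    exact (mul_le_mul_left ih _).trans (closure_mul_le _ _)

theorem map_closure_le {A : Type u} [CommRing A] [TopologicalSpace A] [IsTopologicalRing A]
    {B : Type v} [CommRing B] [TopologicalSpace B] [IsTopologicalRing B] {φ : A →+* B}
    (hφ : Continuous φ) (I : Ideal A) : I.closure.map φ ≤ (I.map φ).closure :=
  Ideal.map_le_iff_le_comap.2 fun _ hx =>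
    map_mem_closure hφ hx fun _ hy => Ideal.mem_map_of_mem φ hy

end Group

section Definition

variable {A : Type u} [CommRing A] [TopologicalSpace A] [IsTopologicalRing A]

omit [IsTopologicalRing A] in
theorem isTopologicallyNilpotent_of_mem {I : Ideal A} (hI : _root_.LinTop.IsIdealOfDefinition A I)
    {x : A} (hx : x ∈ I) : IsTopologicallyNilpotent x := by
  refine tendsto_def.2 fun U hU => ?_
  obtain ⟨n, -, hn⟩ := hI.2 U hU
  exact eventually_atTop.2 ⟨n, fun m hm => hn (Ideal.pow_le_pow_right hm (Ideal.pow_mem_pow hx m))⟩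

omit [IsTopologicalRing A] in
theorem isWeakIdealOfDefinition_of_isIdealOfDefinition {I : Ideal A}
    (hI : _root_.LinTop.IsIdealOfDefinition A I) : _root_.LinTop.IsWeakIdealOfDefinition A I :=
  ⟨hI.1, fun _ hx => isTopologicallyNilpotent_of_mem hI hx⟩

theorem isTopologicallyNilpotent_of_pow [IsLinearTopology A A] {x : A} {n : ℕ}
    (h : IsTopologicallyNilpotent (x ^ n)) : IsTopologicallyNilpotent x := by
  refine (IsLinearTopology.hasBasis_open_ideal.tendsto_right_iff).2 fun U hU => ?_
  obtain ⟨q, hq⟩ := h.exists_pow_mem_of_mem_nhds (hU.mem_nhds U.zero_mem)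
  refine eventually_atTop.2 ⟨n * q, fun m hm => ?_⟩
  rw [SetLike.mem_coe, ← Nat.add_sub_cancel' hm, pow_add, pow_mul]
  exact U.mul_mem_right _ hq

theorem isTopologicallyNilpotent_iff_isNilpotent_mk [IsLinearTopology A A] {I : Ideal A}
    (hI : _root_.LinTop.IsIdealOfDefinition A I) (x : A) :
    IsTopologicallyNilpotent x ↔ IsNilpotent (Ideal.Quotient.mk I x) := by
  constructor
  · intro h
    obtain ⟨n, hn⟩ := h.exists_pow_mem_of_mem_nhds (hI.1.mem_nhds I.zero_mem)
    exact ⟨n, by rw [← map_pow]; exact Ideal.Quotient.eq_zero_iff_mem.2 hn⟩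
  · rintro ⟨n, hn⟩
    rw [← map_pow, Ideal.Quotient.eq_zero_iff_mem] at hn
    refine isTopologicallyNilpotent_of_pow (n := n + 1) (isTopologicallyNilpotent_of_mem hI ?_)
    rw [pow_succ]
    exact I.mul_mem_right _ hn

omit [IsTopologicalRing A] in
theorem le_topologicalNilradical [IsLinearTopology A A] {I : Ideal A}
    (hI : _root_.LinTop.IsIdealOfDefinition A I) : I ≤ topologicalNilradical A :=
  fun _ hx => IsTopologicallyNilpotent.mem_topologicalNilradical_iff.2
    (isTopologicallyNilpotent_of_mem hI hx)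

theorem comap_nilradical [IsLinearTopology A A] {I : Ideal A}
    (hI : _root_.LinTop.IsIdealOfDefinition A I) :
    (nilradical (A ⧸ I)).comap (Ideal.Quotient.mk I) = topologicalNilradical A :=
  Ideal.ext fun x => by
    rw [Ideal.mem_comap, mem_nilradical, IsTopologicallyNilpotent.mem_topologicalNilradical_iff,
      isTopologicallyNilpotent_iff_isNilpotent_mk hI]

omit [IsTopologicalRing A] in
theorem isIdealOfDefinition_of_pow_le {I J : Ideal A} (hI : _root_.LinTop.IsIdealOfDefinition A I)
    (hJo : IsOpen (J : Set A)) {n : ℕ} (hn : 0 < n) (h : J ^ n ≤ I) :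
    _root_.LinTop.IsIdealOfDefinition A J := by
  refine ⟨hJo, fun U hU => ?_⟩
  obtain ⟨k, hk, hkU⟩ := hI.2 U hU
  refine ⟨n * k, Nat.mul_pos hn hk, ?_⟩
  rw [pow_mul]
  exact Set.Subset.trans (Ideal.pow_right_mono h k) hkU

omit [IsTopologicalRing A] in
theorem exists_pow_le {I J : Ideal A} (hI : IsOpen (I : Set A))
    (hJ : _root_.LinTop.IsIdealOfDefinition A J) : ∃ n, 0 < n ∧ J ^ n ≤ I := by
  obtain ⟨n, hn, hnU⟩ := hJ.2 (I : Set A) (hI.mem_nhds I.zero_mem)
  exact ⟨n, hn, hnU⟩

theorem exists_idealOfDefinition_ge_iff {I : Ideal A} (hI : _root_.LinTop.IsIdealOfDefinition A I)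
    (I' : Ideal A) :
    (∃ J : Ideal A, _root_.LinTop.IsIdealOfDefinition A J ∧ I' ≤ J) ↔
      ∃ n : ℕ, 0 < n ∧ I' ^ n ≤ I := by
  constructor
  · rintro ⟨J, hJ, hle⟩
    obtain ⟨n, hn, hnI⟩ := exists_pow_le hI.1 hJ
    exact ⟨n, hn, (Ideal.pow_right_mono hle n).trans hnI⟩
  · rintro ⟨n, hn, h⟩
    refine ⟨I ⊔ I', isIdealOfDefinition_of_pow_le hI (isOpen_mono le_sup_left hI.1) hn ?_,
      le_sup_right⟩
    have key : ∀ J : Ideal A, J ≤ I ↔ J.map (Ideal.Quotient.mk I) = ⊥ := fun J => by
      rw [Ideal.map_eq_bot_iff_le_ker, Ideal.mk_ker]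
    rw [key, Ideal.map_pow, Ideal.map_sup, Ideal.map_quotient_self, bot_sup_eq, ← Ideal.map_pow,
      ← key]
    exact h

end Definition

section Complete

variable {A : Type u} [CommRing A] [UniformSpace A] [IsUniformAddGroup A] [IsTopologicalRing A]
  [IsLinearTopology A A] [CompleteSpace A] [T2Space A]

omit [T2Space A] in
theorem summable_of_tendsto {f : ℕ → A} (h : Tendsto f atTop (𝓝 0)) : Summable f := by
  refine (summable_iff_vanishing).2 fun e he => ?_
  obtain ⟨U, hU, hUe⟩ := (IsLinearTopology.hasBasis_open_ideal (R := A)).mem_iff.1 he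
  obtain ⟨N, hN⟩ := eventually_atTop.1 (h (hU.mem_nhds U.zero_mem))
  refine ⟨Finset.range N, fun t ht => hUe (U.sum_mem fun i hi => hN i ?_)⟩
  by_contra hlt
  exact Finset.disjoint_left.1 ht hi (Finset.mem_range.2 (not_le.1 hlt))

omit [CompleteSpace A] [T2Space A] [IsLinearTopology A A] [IsTopologicalRing A] [IsUniformAddGroup A] in
theorem hasSum_mem {f : ℕ → A} {a : A} (h : HasSum f a) {I : Ideal A}
    (hI : IsClosed (I : Set A)) (hf : ∀ n, f n ∈ I) : a ∈ I :=
  hI.mem_of_tendsto h.tendsto_sum_nat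
    (Eventually.of_forall fun _ => I.sum_mem fun i _ => hf i)

theorem isUnit_one_add {x : A} (hx : IsTopologicallyNilpotent x) : IsUnit (1 + x) := by
  have h : IsTopologicallyNilpotent (-x) := by simpa using hx.mul_left (-1)
  have hs : Summable fun i : ℕ => (-x) ^ i := summable_of_tendsto h
  have := hs.tsum_pow_mul_one_sub
  rw [sub_neg_eq_add] at this
  exact IsUnit.of_mul_eq_one_right _ this

theorem le_jacobson_bot {I : Ideal A} (hI : ∀ x ∈ I, IsTopologicallyNilpotent x) :
    I ≤ (⊥ : Ideal A).jacobson := fun x hx => by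
  rw [Ideal.mem_jacobson_bot]
  intro y
  rw [add_comm]
  exact isUnit_one_add ((hI x hx).mul_right y)

theorem isUnit_iff_isUnit_mk {I : Ideal A} (hI : ∀ x ∈ I, IsTopologicallyNilpotent x) (f : A) :
    IsUnit f ↔ IsUnit (Ideal.Quotient.mk I f) := by
  refine ⟨fun h => h.map _, fun h => ?_⟩
  obtain ⟨g', hg⟩ := h.exists_right_inv
  obtain ⟨g, rfl⟩ := Ideal.Quotient.mk_surjective g'
  rw [← map_mul, ← map_one (Ideal.Quotient.mk I), Ideal.Quotient.eq] at hg
  have := isUnit_one_add (hI _ hg)
  rw [add_sub_cancel] at this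
  exact isUnit_of_mul_isUnit_left this

/-- A finitely generated ideal whose powers tend to zero defines a complete adic filtration. -/
theorem isAdicComplete_of_fg {I : Ideal A} (hI : I.FG)
    (htend : ∀ U ∈ 𝓝 (0 : A), ∃ n : ℕ, ((I ^ n : Ideal A) : Set A) ⊆ U) :
    IsAdicComplete I A where
  haus' x hx := by
    have hmem : ∀ n, x ∈ I ^ n := fun n => by simpa [SModEq.zero] using hx n
    by_contra hne
    obtain ⟨U, hU, hxU⟩ : ∃ U ∈ 𝓝 (0 : A), x ∉ U :=
      ⟨{x}ᶜ, isClosed_singleton.isOpen_compl.mem_nhds (by simpa using Ne.symm hne), by simp⟩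
    obtain ⟨n, hn⟩ := htend U hU
    exact hxU (hn (hmem n))
  prec' f hf := by
    have hstep : ∀ n k, f (n + k + 1) - f (n + k) ∈ I ^ n * I ^ k := by
      intro n k
      rw [← pow_add, ← neg_sub]
      refine (I ^ (n + k)).neg_mem ?_
      simpa [SModEq.sub_mem] using hf (Nat.le_succ (n + k))
    have key : ∀ n, ∃ L, Tendsto (fun k => f (n + k)) atTop (𝓝 L) ∧ L - f n ∈ I ^ n := by
      intro n
      obtain ⟨s, hs⟩ := hI.pow (n := n)
      have hc : ∀ k, ∃ c : s → A, (∀ i, c i ∈ I ^ k) ∧
          f (n + k + 1) - f (n + k) = ∑ i, c i * (i : A) := by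
        intro k
        have hmem : f (n + k + 1) - f (n + k) ∈
            (I ^ k) • Submodule.span A (Set.range fun i : s => (i : A)) := by
          have he : Submodule.span A (Set.range fun i : s => (i : A)) = I ^ n := by simpa using hs
          rw [he, smul_eq_mul, mul_comm]
          exact hstep n k
        obtain ⟨c, hc, hsum⟩ := (Submodule.mem_ideal_smul_span_iff_exists_sum _ _ _).1 hmem
        refine ⟨c, hc, hsum.symm.trans ?_⟩
        rw [Finsupp.sum_fintype _ _ (by simp)]
        rfl
      choose c hc hceq using hc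
      have hsum : ∀ i : s, Summable fun k => c k i := fun i =>
        summable_of_tendsto <| by
          refine tendsto_def.2 fun U hU => ?_
          obtain ⟨m, hm⟩ := htend U hU
          exact eventually_atTop.2 ⟨m, fun k hk => hm (Ideal.pow_le_pow_right hk (hc k i))⟩
      have hS : HasSum (fun k => f (n + k + 1) - f (n + k)) (∑ i : s, (∑' k, c k i) * (i : A)) := by
        simp only [hceq]
        exact hasSum_sum fun i _ => (hsum i).hasSum.mul_right _
      refine ⟨f n + ∑ i : s, (∑' k, c k i) * (i : A), ?_, ?_⟩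
      · refine (hS.tendsto_sum_nat.const_add (f n)).congr fun k => ?_
        induction k with
        | zero => simp
        | succ k ih =>
          rw [Finset.sum_range_succ, ← add_assoc, ih, ← add_assoc n k 1]
          exact add_sub_cancel _ _
      · rw [add_sub_cancel_left]
        exact Ideal.sum_mem _ fun i _ => Ideal.mul_mem_left _ _
          (hs ▸ Ideal.subset_span i.2)
    obtain ⟨L, hL, -⟩ := key 0
    refine ⟨L, fun n => ?_⟩
    obtain ⟨L', hL', hmem⟩ := key n
    have : L = L' := tendsto_nhds_unique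
      (((tendsto_add_atTop_iff_nat n).2 hL).congr fun k => by rw [Nat.zero_add, add_comm]) hL'
    subst this
    rw [smul_eq_mul, Ideal.mul_top, SModEq.sub_mem, ← neg_sub]
    exact (I ^ n).neg_mem hmem

theorem henselianRing {I : Ideal A} (hI : _root_.LinTop.IsWeakIdealOfDefinition A I) :
    HenselianRing A I where
  jac := le_jacobson_bot hI.2
  is_henselian f hf a₀ ha₀ hd := by
    have hcomp : IsAdicComplete (Ideal.span {f.eval a₀}) A := by
      refine isAdicComplete_of_fg ⟨{f.eval a₀}, by simp⟩ fun U hU => ?_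
      obtain ⟨V, hV, hVU⟩ := (IsLinearTopology.hasBasis_open_ideal (R := A)).mem_iff.1 hU
      obtain ⟨n, hn⟩ := (hI.2 _ ha₀).exists_pow_mem_of_mem_nhds (hV.mem_nhds V.zero_mem)
      refine ⟨n, Set.Subset.trans ?_ hVU⟩
      rw [Ideal.span_singleton_pow]
      exact (Ideal.span_le.2 (by simpa using hn) : Ideal.span {f.eval a₀ ^ n} ≤ V)
    have hd' : IsUnit (f.derivative.eval a₀) := (isUnit_iff_isUnit_mk hI.2 _).2 hd
    obtain ⟨a, ha, hmem⟩ := HenselianRing.is_henselian (R := A) (I := Ideal.span {f.eval a₀}) f hf a₀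
      (Ideal.mem_span_singleton_self _) (hd'.map _)
    exact ⟨a, ha, Ideal.span_le.2 (by simpa using ha₀) hmem⟩

end Complete

end Groth.Agent.LinTopLib
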