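import Mathlib
import Groth.Prelude.Def_W4stk3formalspacesTaut
import Groth.Agent.LinTopLib.Basic

/-!
Taut and adic homomorphisms of linearly topologized rings.
-/

namespace Groth.Agent.LinTopLib

universe u v w

open Filter Topology

variable {A : Type u} [CommRing A] [TopologicalSpace A] [IsTopologicalRing A]
  {B : Type v} [CommRing B] [TopologicalSpace B] [IsTopologicalRing B]

theorem isClosed_topologicalNilradical [IsLinearTopology B B] :
    IsClosed ((topologicalNilradical B : Ideal B) : Set B) := by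
  refine isClosed_of_closure_subset fun x hx => ?_
  change IsTopologicallyNilpotent x
  refine IsLinearTopology.hasBasis_open_ideal.tendsto_right_iff.2 fun U hU => ?_
  obtain ⟨y, hy, hyn⟩ := mem_closure_iff.1 hx ((fun y => x - y) ⁻¹' (U : Set B))
    (hU.preimage (continuous_const.sub continuous_id)) (by simp)
  obtain ⟨q, hq⟩ := (show IsTopologicallyNilpotent y from hyn).exists_pow_mem_of_mem_nhds
    (hU.mem_nhds U.zero_mem)
  refine eventually_atTop.2 ⟨q, fun m hm => ?_⟩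
  have h1 : x ^ m - y ^ m ∈ U := U.mem_of_dvd (sub_dvd_pow_sub_pow x y m) hy
  have h2 : y ^ m ∈ U := by
    rw [← Nat.add_sub_cancel' hm, pow_add]
    exact U.mul_mem_right _ hq
  simpa using U.add_mem h1 h2

omit [IsTopologicalRing A] in
theorem isTopologicallyNilpotent_mem_closure_map [IsLinearTopology B B] {φ : A →+* B}
    (hφ : Continuous φ) {I : Ideal A} (hI : ∀ f ∈ I, IsTopologicallyNilpotent f) {g : B}
    (hg : g ∈ (I.map φ).closure) : IsTopologicallyNilpotent g := by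
  have h : I.map φ ≤ topologicalNilradical B :=
    Ideal.map_le_iff_le_comap.2 fun f hf => (hI f hf).map (φ := φ) hφ
  exact closure_le h isClosed_topologicalNilradical hg

omit [IsTopologicalRing A] in
theorem isOpen_closure_map {φ : A →+* B} (h : _root_.LinTop.IsTaut φ) {I : Ideal A}
    (hI : IsOpen (I : Set A)) : IsOpen (((I.map φ).closure : Ideal B) : Set B) :=
  h.2.1 I hI

omit [IsTopologicalRing A] [IsTopologicalRing B] in
theorem isTaut_of_isTaut_comp {C : Type w} [CommRing C] [TopologicalSpace C] [IsTopologicalRing C]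
    [IsLinearTopology C C] {φ : A →+* B} {ψ : B →+* C} (hφ : Continuous φ) (hψ : Continuous ψ)
    (h : _root_.LinTop.IsTaut (ψ.comp φ)) : _root_.LinTop.IsTaut ψ := by
  refine ⟨hψ, fun I hI => ?_, fun U hU => ?_⟩
  · have := h.2.1 (I.comap φ) (hI.preimage hφ)
    refine isOpen_mono (I := ((I.comap φ).map (ψ.comp φ)).closure) (J := (I.map ψ).closure) ?_ this
    refine closure_mono ?_
    rw [← Ideal.map_map]
    exact Ideal.map_mono Ideal.map_comap_le
  · obtain ⟨I, hI, hIU⟩ := h.2.2 U hU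
    let V := (I.map (ψ.comp φ)).closure
    have hV : IsOpen (V : Set C) := h.2.1 I hI
    refine ⟨V.comap ψ, hV.preimage hψ, Set.Subset.trans ?_ hIU⟩
    exact closure_le (J := V) Ideal.map_comap_le isClosed_closure

omit [IsTopologicalRing A] [IsTopologicalRing B] in
theorem exists_antitone_basis [IsTopologicalRing A] [IsLinearTopology A A]
    (hA : (𝓝 (0 : A)).IsCountablyGenerated) :
    ∃ I : ℕ → Ideal A, Antitone I ∧ (∀ n, IsOpen (I n : Set A)) ∧
      (𝓝 (0 : A)).HasBasis (fun _ : ℕ => True) (fun n => (I n : Set A)) := by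
  obtain ⟨I, hI, hb⟩ := (IsLinearTopology.hasBasis_open_ideal (R := A)).exists_antitone_subbasis
  exact ⟨I, fun m n hmn => hb.antitone hmn, hI, hb.toHasBasis⟩

theorem isCountablyGenerated_of_isTaut [IsLinearTopology A A] {φ : A →+* B}
    (hφ : _root_.LinTop.IsTaut φ) (hA : (𝓝 (0 : A)).IsCountablyGenerated) :
    (𝓝 (0 : B)).IsCountablyGenerated := by
  obtain ⟨I, -, hI, hb⟩ := exists_antitone_basis hA
  refine HasCountableBasis.isCountablyGenerated (s := fun n => (((I n).map φ).closure : Set B))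
    (p := fun _ : ℕ => True) ⟨⟨fun U => ⟨fun hU => ?_, fun ⟨n, _, hn⟩ => ?_⟩⟩, Set.to_countable _⟩
  · obtain ⟨J, hJ, hJU⟩ := hφ.2.2 U hU
    obtain ⟨n, -, hn⟩ := hb.mem_iff.1 (hJ.mem_nhds J.zero_mem)
    exact ⟨n, trivial, Set.Subset.trans (closure_mono (Ideal.map_mono hn)) hJU⟩
  · exact mem_of_superset ((isOpen_closure_map hφ (hI n)).mem_nhds (Ideal.zero_mem _)) hn

omit [IsTopologicalRing A] in
theorem isWeaklyPreadmissible_of_isTaut [IsLinearTopology B B] {φ : A →+* B}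
    (hφ : _root_.LinTop.IsTaut φ) (hA : _root_.LinTop.IsWeaklyPreadmissible A) :
    _root_.LinTop.IsWeaklyPreadmissible B := by
  obtain ⟨-, I, hIo, hI⟩ := hA
  exact ⟨inferInstance, (I.map φ).closure, hφ.2.1 I hIo,
    fun g hg => isTopologicallyNilpotent_mem_closure_map hφ.1 hI hg⟩

omit [IsTopologicalRing A] in
theorem isIdealOfDefinition_closure_map {φ : A →+* B} (hφ : _root_.LinTop.IsTaut φ) {I : Ideal A}
    (hI : _root_.LinTop.IsIdealOfDefinition A I) :
    _root_.LinTop.IsIdealOfDefinition B (I.map φ).closure := by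
  refine ⟨hφ.2.1 I hI.1, fun U hU => ?_⟩
  obtain ⟨J, hJ, hJU⟩ := hφ.2.2 U hU
  obtain ⟨n, hn, hnJ⟩ := exists_pow_le hJ hI
  refine ⟨n, hn, Set.Subset.trans ?_ hJU⟩
  refine (closure_pow_le _ n).trans (closure_mono ?_)
  rw [← Ideal.map_pow]
  exact Ideal.map_mono hnJ

omit [IsTopologicalRing A] in
theorem isAdic_of_isIdealOfDefinition [IsTopologicalRing A] {J I : Ideal A} (hJ : IsAdic J)
    (hI : _root_.LinTop.IsIdealOfDefinition A I) : IsAdic I := by
  rw [isAdic_iff] at hJ ⊢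
  refine ⟨fun n => ?_, fun s hs => ?_⟩
  · obtain ⟨m, hm⟩ := hJ.2 _ (hI.1.mem_nhds I.zero_mem)
    refine isOpen_mono ?_ (hJ.1 (m * n))
    rw [pow_mul]
    exact Ideal.pow_right_mono hm n
  · obtain ⟨n, -, hn⟩ := hI.2 s hs
    exact ⟨n, hn⟩

theorem isIdealOfDefinition_of_isAdic {J : Ideal A} (hJ : IsAdic J) :
    _root_.LinTop.IsIdealOfDefinition A J := by
  rw [isAdic_iff] at hJ
  refine ⟨by simpa using hJ.1 1, fun U hU => ?_⟩
  obtain ⟨n, hn⟩ := hJ.2 U hU
  exact ⟨n + 1, n.succ_pos, Set.Subset.trans (Ideal.pow_le_pow_right n.le_succ) hn⟩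

omit [IsTopologicalRing A] in
theorem isLinearTopology_of_isAdic {J : Ideal A} (hJ : IsAdic J) : IsLinearTopology A A := by
  subst hJ
  exact J.isLinearTopology

theorem isTaut_of_isAdicHom (hA : _root_.LinTop.IsPreadic A) {φ : A →+* B} (hφ : Continuous φ)
    (h : _root_.LinTop.IsAdicHom φ) : _root_.LinTop.IsTaut φ := by
  obtain ⟨J, hJ⟩ := hA
  obtain ⟨I, hI, hIB⟩ := h
  have hIA := isAdic_iff.1 (isAdic_of_isIdealOfDefinition hJ hI)
  rw [isAdic_iff] at hIB
  refine ⟨hφ, fun K hK => ?_, fun U hU => ?_⟩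
  · obtain ⟨n, hn⟩ := hIA.2 _ (hK.mem_nhds K.zero_mem)
    refine isOpen_mono (J := (K.map φ).closure) ?_ (hIB.1 n)
    rw [← Ideal.map_pow]
    exact (Ideal.map_mono hn).trans (le_closure _)
  · obtain ⟨n, hn⟩ := hIB.2 U hU
    refine ⟨I ^ n, hIA.1 n, Set.Subset.trans ?_ hn⟩
    rw [Ideal.map_pow, (isClosed_of_isOpen (hIB.1 n)).closure_eq]

theorem isAdicHom_of_isAdicHom_comp (hA : _root_.LinTop.IsPreadic A) (hB : _root_.LinTop.IsPreadic B)
    {C : Type w} [CommRing C] [TopologicalSpace C] [IsTopologicalRing C] {φ : A →+* B} {ψ : B →+* C}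
    (hφ : Continuous φ) (hψ : Continuous ψ) (h : _root_.LinTop.IsAdicHom (ψ.comp φ)) :
    _root_.LinTop.IsAdicHom ψ := by
  obtain ⟨J, hJ⟩ := hB
  obtain ⟨J₀, hJ₀⟩ := hA
  obtain ⟨I, hI, hIC⟩ := h
  have hIA := isAdic_iff.1 (isAdic_of_isIdealOfDefinition hJ₀ hI)
  have hJo : IsOpen (J : Set B) := by simpa using (isAdic_iff.1 hJ).1 1
  obtain ⟨n, hn⟩ := hIA.2 _ ((hJo.preimage hφ).mem_nhds (by simp))
  have hn' : (I.map φ) ^ (n + 1) ≤ J := by
    rw [← Ideal.map_pow]
    exact Ideal.map_le_iff_le_comap.2 fun x hx => hn (Ideal.pow_le_pow_right n.le_succ hx)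
  obtain ⟨K, hK, hKle⟩ := (exists_idealOfDefinition_ge_iff (isIdealOfDefinition_of_isAdic hJ) _).2
    ⟨n + 1, n.succ_pos, hn'⟩
  refine ⟨K, hK, ?_⟩
  rw [isAdic_iff] at hIC ⊢
  refine ⟨fun m => ?_, fun s hs => ?_⟩
  · refine isOpen_mono ?_ (hIC.1 m)
    rw [← Ideal.map_map]
    exact Ideal.pow_right_mono (Ideal.map_mono hKle) m
  · obtain ⟨m, hm⟩ := hIC.2 s hs
    obtain ⟨k, -, hk⟩ := hK.2 _ (((hIC.1 m).preimage hψ).mem_nhds (by simp))
    refine ⟨k, Set.Subset.trans ?_ hm⟩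
    rw [← Ideal.map_pow]
    exact Ideal.map_le_iff_le_comap.2 hk

omit [IsTopologicalRing A] in
theorem isTaut_iff_weakIdealOfDefinition [IsLinearTopology B B]
    (hA : _root_.LinTop.IsWeaklyPreadmissible A) {φ : A →+* B} (hφ : Continuous φ) :
    _root_.LinTop.IsTaut φ ↔
      ((∀ I : Ideal A, _root_.LinTop.IsWeakIdealOfDefinition A I →
          _root_.LinTop.IsWeakIdealOfDefinition B (I.map φ).closure) ∧
        ∀ U ∈ 𝓝 (0 : B), ∃ I : Ideal A, _root_.LinTop.IsWeakIdealOfDefinition A I ∧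
          ((I.map φ).closure : Set B) ⊆ U) := by
  obtain ⟨-, I₀, hI₀o, hI₀⟩ := hA
  have hinf : ∀ I : Ideal A, IsOpen (I : Set A) →
      _root_.LinTop.IsWeakIdealOfDefinition A (I ⊓ I₀) :=
    fun I hI => ⟨hI.inter hI₀o, fun f hf => hI₀ f hf.2⟩
  constructor
  · intro h
    refine ⟨fun I hI => ⟨h.2.1 I hI.1,
      fun g hg => isTopologicallyNilpotent_mem_closure_map hφ hI.2 hg⟩, fun U hU => ?_⟩
    obtain ⟨I, hI, hIU⟩ := h.2.2 U hU
    exact ⟨_, hinf I hI, Set.Subset.trans (closure_mono (Ideal.map_mono inf_le_left)) hIU⟩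
  · rintro ⟨h1, h2⟩
    refine ⟨hφ, fun I hI => ?_, fun U hU => ?_⟩
    · exact isOpen_mono (J := (I.map φ).closure) (closure_mono (Ideal.map_mono inf_le_left))
        (h1 _ (hinf I hI)).1
    · obtain ⟨I, hI, hIU⟩ := h2 U hU
      exact ⟨I, hI.1, hIU⟩

section WeaklyPreadic

theorem exists_isOpen_closure_pow (hA : _root_.LinTop.IsWeaklyPreadic A) :
    ∃ I : Ideal A, _root_.LinTop.IsIdealOfDefinition A I ∧
      ∀ n : ℕ, IsOpen (closure ((I ^ n : Ideal A) : Set A)) := by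
  obtain ⟨-, I, hIo, hIU⟩ := hA
  refine ⟨I.closure, ⟨by simpa using hIo 1, fun U hU => ?_⟩, fun n => ?_⟩
  · obtain ⟨n, hn⟩ := hIU U hU
    exact ⟨n + 1, n.succ_pos, Set.Subset.trans ((closure_pow_le I _).trans
      (closure_mono (Ideal.pow_le_pow_right n.le_succ))) hn⟩
  · exact isOpen_mono (J := (I.closure ^ n).closure)
      (closure_mono (Ideal.pow_right_mono (le_closure I) n)) (I := (I ^ n).closure) (hIo n)

theorem isPreadmissible_of_isWeaklyPreadic (hA : _root_.LinTop.IsWeaklyPreadic A) :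
    _root_.LinTop.IsPreadmissible A :=
  ⟨hA.1, (exists_isOpen_closure_pow hA).imp fun _ h => h.1⟩

theorem isOpen_closure_pow_of_exists {I : Ideal A} (hI : _root_.LinTop.IsIdealOfDefinition A I)
    (ho : ∀ n : ℕ, 0 < n → IsOpen (closure ((I ^ n : Ideal A) : Set A))) {I' : Ideal A}
    (hI' : _root_.LinTop.IsIdealOfDefinition A I') {n : ℕ} (hn : 0 < n) :
    IsOpen (closure ((I' ^ n : Ideal A) : Set A)) := by
  obtain ⟨m, hm, hmI⟩ := exists_pow_le hI'.1 hI
  refine isOpen_mono (J := (I' ^ n).closure) (I := (I ^ (m * n)).closure) ?_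
    (ho _ (Nat.mul_pos hm hn))
  rw [pow_mul]
  exact closure_mono (Ideal.pow_right_mono hmI n)

theorem isWeaklyPreadic_of_exists [IsLinearTopology A A] {I : Ideal A}
    (hI : _root_.LinTop.IsIdealOfDefinition A I)
    (ho : ∀ n : ℕ, 0 < n → IsOpen (closure ((I ^ n : Ideal A) : Set A))) :
    _root_.LinTop.IsWeaklyPreadic A := by
  refine ⟨inferInstance, I, fun n => ?_, fun U hU => ?_⟩
  · rcases Nat.eq_zero_or_pos n with rfl | hn
    · simp
    · exact ho n hn
  · obtain ⟨V, hV, hVU⟩ := (IsLinearTopology.hasBasis_open_ideal (R := A)).mem_iff.1 hU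
    obtain ⟨n, -, hn⟩ := hI.2 _ (hV.mem_nhds V.zero_mem)
    exact ⟨n, Set.Subset.trans (closure_le hn (isClosed_of_isOpen hV)) hVU⟩

theorem isWeaklyPreadic_of_isTaut [IsLinearTopology B B] {φ : A →+* B}
    (hφ : _root_.LinTop.IsTaut φ) (hA : _root_.LinTop.IsWeaklyPreadic A) :
    _root_.LinTop.IsWeaklyPreadic B := by
  obtain ⟨I, hI, ho⟩ := exists_isOpen_closure_pow hA
  refine isWeaklyPreadic_of_exists (isIdealOfDefinition_closure_map hφ hI) fun n _ => ?_
  refine isOpen_mono (J := ((I.map φ).closure ^ n).closure)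
    (I := (((I ^ n).closure).map φ).closure) ?_ (hφ.2.1 _ (ho n))
  refine closure_le ?_ isClosed_closure
  refine (map_closure_le hφ.1 _).trans (closure_mono ?_)
  rw [Ideal.map_pow]
  exact Ideal.pow_right_mono (le_closure _) n

theorem isWeaklyPreadic_of_isPreadic (hA : _root_.LinTop.IsPreadic A) :
    _root_.LinTop.IsWeaklyPreadic A := by
  obtain ⟨J, hJ⟩ := hA
  have := isLinearTopology_of_isAdic hJ
  refine isWeaklyPreadic_of_exists (isIdealOfDefinition_of_isAdic hJ) fun n _ => ?_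
  have h := (isAdic_iff.1 hJ).1 n
  rwa [(isClosed_of_isOpen h).closure_eq]

theorem tfae_weaklyPreadic [IsLinearTopology A A] :
    List.TFAE [_root_.LinTop.IsWeaklyPreadic A,
      ∃ (A' : Type u) (_ : CommRing A') (_ : TopologicalSpace A') (_ : IsTopologicalRing A')
        (φ : A' →+* A), _root_.LinTop.IsPreadic A' ∧ _root_.LinTop.IsTaut φ,
      _root_.LinTop.IsPreadmissible A ∧ ∃ I : Ideal A, _root_.LinTop.IsIdealOfDefinition A I ∧
        ∀ n : ℕ, 0 < n → IsOpen (closure ((I ^ n : Ideal A) : Set A)),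
      _root_.LinTop.IsPreadmissible A ∧ ∀ I : Ideal A, _root_.LinTop.IsIdealOfDefinition A I →
        ∀ n : ℕ, 0 < n → IsOpen (closure ((I ^ n : Ideal A) : Set A))] := by
  tfae_have 1 → 2 := by
    intro h
    obtain ⟨I, hI, ho⟩ := exists_isOpen_closure_pow h
    have htop : @IsTopologicalRing A I.adicTopology _ :=
      (RingSubgroupsBasis.toRingFilterBasis _).isTopologicalRing
    have hopen : ∀ n : ℕ, @IsOpen A I.adicTopology ((I ^ n : Ideal A) : Set A) :=
      ((@isAdic_iff A _ I.adicTopology htop I).1 rfl).1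
    have hc : ∀ K : Ideal A, @IsOpen A I.adicTopology (K : Set A) →
        IsOpen (closure ((K.map (RingHom.id A) : Ideal A) : Set A)) := fun K hK => by
      obtain ⟨n, -, hn⟩ := (Ideal.hasBasis_nhds_zero_adic I).mem_iff.1
        (@IsOpen.mem_nhds A I.adicTopology 0 (K : Set A) hK K.zero_mem)
      rw [Ideal.map_id]
      exact isOpen_mono (J := K.closure) (I := (I ^ n).closure) (closure_mono hn) (ho n)
    have hs : ∀ U ∈ 𝓝 (0 : A), ∃ K : Ideal A, @IsOpen A I.adicTopology (K : Set A) ∧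
        closure ((K.map (RingHom.id A) : Ideal A) : Set A) ⊆ U := fun U hU => by
      obtain ⟨V, hV, hVU⟩ := (IsLinearTopology.hasBasis_open_ideal (R := A)).mem_iff.1 hU
      obtain ⟨m, -, hm⟩ := hI.2 _ (hV.mem_nhds V.zero_mem)
      refine ⟨I ^ m, hopen m, ?_⟩
      rw [Ideal.map_id]
      exact Set.Subset.trans (closure_le hm (isClosed_of_isOpen hV)) hVU
    have hcont : ∀ V : Set A, IsOpen V → @IsOpen A I.adicTopology V := fun V hV => by
      refine (@isOpen_iff_mem_nhds A I.adicTopology V).2 fun x hx => ?_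
      obtain ⟨n, -, hn⟩ := hI.2 ((fun y => x + y) ⁻¹' V)
        ((hV.preimage (continuous_const_add x)).mem_nhds (by simpa using hx))
      refine (Ideal.hasBasis_nhds_adic I x).mem_iff.2 ⟨n, trivial, ?_⟩
      rintro _ ⟨y, hy, rfl⟩
      exact hn hy
    refine ⟨A, inferInstance, I.adicTopology, htop, RingHom.id A, ⟨I, rfl⟩, ?_, hc, hs⟩
    exact continuous_def.2 hcont
  tfae_have 2 → 1 := by
    rintro ⟨A', _, _, _, φ, hA', hφ⟩
    exact isWeaklyPreadic_of_isTaut hφ (isWeaklyPreadic_of_isPreadic hA')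
  tfae_have 1 → 3 := fun h =>
    ⟨isPreadmissible_of_isWeaklyPreadic h,
      (exists_isOpen_closure_pow h).imp fun _ hI => ⟨hI.1, fun n _ => hI.2 n⟩⟩
  tfae_have 3 → 4 := fun ⟨hp, I, hI, ho⟩ =>
    ⟨hp, fun I' hI' n hn => isOpen_closure_pow_of_exists hI ho hI' hn⟩
  tfae_have 4 → 1 := fun ⟨⟨_, I, hI⟩, ho⟩ => isWeaklyPreadic_of_exists hI (ho I hI)
  tfae_finish

end WeaklyPreadic

section Descent

variable {φ : A →+* B}

omit [IsTopologicalRing A] in
theorem comap_closure_map (hφ : _root_.LinTop.IsTautFFlat φ) {I : Ideal A} (hI : IsOpen (I : Set A)) :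
    (I.map φ).closure.comap φ ≤ I := fun x hx => by
  have : _root_.LinTop.descentMap φ I (Ideal.Quotient.mk I x) = 0 := by
    rw [_root_.LinTop.descentMap, Ideal.quotientMap_mk]
    exact Ideal.Quotient.eq_zero_iff_mem.2 hx
  exact Ideal.Quotient.eq_zero_iff_mem.1
    ((RingHom.FaithfullyFlat.injective (hφ.2 I hI)) (by rw [this, map_zero]))

theorem isCountablyGenerated_of_isTautFFlat [IsLinearTopology A A] (hφ : _root_.LinTop.IsTautFFlat φ)
    (hB : (𝓝 (0 : B)).IsCountablyGenerated) : (𝓝 (0 : A)).IsCountablyGenerated := by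
  obtain ⟨U, hU⟩ := (𝓝 (0 : B)).exists_antitone_basis
  choose I hI hIU using fun k => hφ.1.2.2 (U k) (hU.mem k)
  refine HasCountableBasis.isCountablyGenerated (s := fun k => (I k : Set A))
    (p := fun _ : ℕ => True) ⟨⟨fun V => ⟨fun hV => ?_, fun ⟨k, _, hk⟩ => ?_⟩⟩, Set.to_countable _⟩
  · obtain ⟨J, hJ, hJV⟩ := (IsLinearTopology.hasBasis_open_ideal (R := A)).mem_iff.1 hV
    obtain ⟨k, hk⟩ := hU.mem_iff.1 ((hφ.1.2.1 J hJ).mem_nhds (Ideal.zero_mem (J.map φ).closure))
    refine ⟨k, trivial, Set.Subset.trans (fun x hx => ?_) hJV⟩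
    exact comap_closure_map hφ hJ
      (hk (hIU k (subset_closure (Ideal.mem_map_of_mem φ hx))))
  · exact mem_of_superset ((hI k).mem_nhds (Ideal.zero_mem _)) hk

theorem isWeaklyPreadmissible_of_isTautFFlat [IsLinearTopology A A]
    (hφ : _root_.LinTop.IsTautFFlat φ) (hB : _root_.LinTop.IsWeaklyPreadmissible B) :
    _root_.LinTop.IsWeaklyPreadmissible A := by
  obtain ⟨-, Q, hQo, hQ⟩ := hB
  obtain ⟨I, hI, hIQ⟩ := hφ.1.2.2 _ (hQo.mem_nhds Q.zero_mem)
  refine ⟨inferInstance, I, hI, fun f hf => ?_⟩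
  refine IsLinearTopology.hasBasis_open_ideal.tendsto_right_iff.2 fun K hK => ?_
  have h : IsTopologicallyNilpotent (φ f) := hQ _ (hIQ (subset_closure (Ideal.mem_map_of_mem φ hf)))
  obtain ⟨n, hn⟩ := eventually_atTop.1
    (h ((hφ.1.2.1 K hK).mem_nhds (Ideal.zero_mem (K.map φ).closure)))
  refine eventually_atTop.2 ⟨n, fun m hm => comap_closure_map hφ hK ?_⟩
  rw [Ideal.mem_comap, map_pow]
  exact hn m hm

omit [IsTopologicalRing A] in
theorem exists_isIdealOfDefinition_of_isTautFFlat (hφ : _root_.LinTop.IsTautFFlat φ) {Q : Ideal B}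
    (hQ : _root_.LinTop.IsIdealOfDefinition B Q) [IsLinearTopology A A] [ContinuousAdd A] :
    ∃ I : Ideal A, _root_.LinTop.IsIdealOfDefinition A I ∧ (I.map φ).closure ≤ Q := by
  obtain ⟨I, hI, hIQ⟩ := hφ.1.2.2 _ (hQ.1.mem_nhds Q.zero_mem)
  refine ⟨I, ⟨hI, fun U hU => ?_⟩, hIQ⟩
  obtain ⟨K, hK, hKU⟩ := (IsLinearTopology.hasBasis_open_ideal (R := A)).mem_iff.1 hU
  obtain ⟨n, hn, hnK⟩ := hQ.2 _ ((hφ.1.2.1 K hK).mem_nhds (Ideal.zero_mem (K.map φ).closure))
  refine ⟨n, hn, Set.Subset.trans (fun x hx => comap_closure_map hφ hK (hnK ?_)) hKU⟩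
  have : φ x ∈ (I.map φ) ^ n := Ideal.map_pow (f := φ) I n ▸ Ideal.mem_map_of_mem φ hx
  exact Ideal.pow_right_mono ((le_closure _).trans hIQ) n this

theorem isWeaklyPreadic_of_isTautFFlat [IsLinearTopology A A] [IsLinearTopology B B]
    (hφ : _root_.LinTop.IsTautFFlat φ) (hB : _root_.LinTop.IsWeaklyPreadic B) :
    _root_.LinTop.IsWeaklyPreadic A := by
  obtain ⟨Q, hQ, hQo⟩ := exists_isOpen_closure_pow hB
  obtain ⟨I, hI, -⟩ := exists_isIdealOfDefinition_of_isTautFFlat hφ hQ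
  refine isWeaklyPreadic_of_exists hI fun n hn => ?_
  have hopen : IsOpen (((I ^ n).map φ).closure : Set B) := by
    refine isOpen_mono (J := ((I ^ n).map φ).closure) (I := ((I.map φ).closure ^ n).closure) ?_
      (isOpen_closure_pow_of_exists hQ (fun m _ => hQo m)
        (isIdealOfDefinition_closure_map hφ.1 hI) hn)
    rw [Ideal.map_pow]
    exact closure_le (closure_pow_le _ n) isClosed_closure
  refine isOpen_mono (J := (I ^ n).closure) (I := ((I ^ n).map φ).closure.comap φ) (fun x hx => ?_)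
    (hopen.preimage hφ.1.1)
  show x ∈ closure ((I ^ n : Ideal A) : Set A)
  refine mem_closure_iff_nhds_basis (nhds_translation_sub x ▸
    (IsLinearTopology.hasBasis_open_ideal (R := A)).comap _) |>.2 fun K hK => ?_
  have hxK : x ∈ I ^ n ⊔ K :=
    comap_closure_map hφ (isOpen_mono le_sup_right hK)
      (show φ x ∈ ((I ^ n ⊔ K).map φ).closure from closure_mono (Ideal.map_mono le_sup_left) hx)
  obtain ⟨y, hy, z, hz, rfl⟩ := Submodule.mem_sup.1 hxK
  exact ⟨y, hy, by simpa using K.neg_mem hz⟩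

end Descent

end Groth.Agent.LinTopLib
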