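import Mathlib
import Groth.Prelude.Def_W4stk3formalspacesTaut
import Groth.Agent.LinTopLib.Taut

/-!
Completions of linearly topologized groups and rings.
-/

namespace Groth.Agent.LinTopLib

universe u v

open Filter Topology UniformSpace

section Group

variable {G : Type u} [AddCommGroup G] [UniformSpace G] [IsUniformAddGroup G]
  {H : Type v} [AddCommGroup H] [UniformSpace H] [IsUniformAddGroup H]

/-- The closure in the completion of a subgroup. -/
noncomputable def compClosure (W : AddSubgroup G) : AddSubgroup (Completion G) :=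
  (W.map Completion.toCompl).topologicalClosure

theorem coe_compClosure (W : AddSubgroup G) :
    (compClosure W : Set (Completion G)) =
      closure (((↑) : G → Completion G) '' (W : Set G)) := by
  rfl

theorem coe_mem_compClosure {W : AddSubgroup G} {g : G} (hg : g ∈ W) :
    (g : Completion G) ∈ compClosure W :=
  subset_closure ⟨g, hg, rfl⟩

theorem isOpen_compClosure {W : AddSubgroup G} (hW : IsOpen (W : Set G)) :
    IsOpen (compClosure W : Set (Completion G)) := by
  refine AddSubgroup.isOpen_of_mem_nhds (g := 0) _ ?_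
  rw [coe_compClosure, ← Completion.coe_zero]
  exact Completion.isDenseInducing_coe.closure_image_mem_nhds (hW.mem_nhds W.zero_mem)

theorem mem_of_coe_mem_compClosure {W : AddSubgroup G} (hW : IsOpen (W : Set G)) {g : G}
    (hg : (g : Completion G) ∈ compClosure W) : g ∈ W := by
  rw [← SetLike.mem_coe, ← (AddSubgroup.isClosed_of_isOpen W hW).closure_eq,
    (Completion.isUniformInducing_coe G).isInducing.closure_eq_preimage_closure_image]
  exact hg

theorem compClosure_mono {W W' : AddSubgroup G} (h : W ≤ W') : compClosure W ≤ compClosure W' := by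
  intro x hx
  rw [← SetLike.mem_coe, coe_compClosure] at hx ⊢
  exact _root_.closure_mono (Set.image_mono h) hx

theorem exists_compClosure_subset {p : AddSubgroup G → Prop}
    (hb : (𝓝 (0 : G)).HasBasis p fun W => (W : Set G)) {U : Set (Completion G)} (hU : U ∈ 𝓝 0) :
    ∃ W, p W ∧ (compClosure W : Set (Completion G)) ⊆ U := by
  have h := hb.hasBasis_of_isDenseInducing (Completion.isDenseInducing_coe (α := G))
  rw [Completion.coe_zero] at h
  exact h.mem_iff.1 hU

theorem exists_sub_coe_mem {V : AddSubgroup (Completion G)} (hV : IsOpen (V : Set (Completion G)))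
    {W : AddSubgroup G} {x : Completion G} (hx : x ∈ compClosure W) :
    ∃ g ∈ W, x - (g : Completion G) ∈ V := by
  obtain ⟨_, hy, g, hg, rfl⟩ := mem_closure_iff.1 hx ((fun y => x - y) ⁻¹' (V : Set (Completion G)))
    (hV.preimage (continuous_const.sub continuous_id)) (by simp)
  exact ⟨g, hg, hy⟩

theorem mem_compClosure_top (x : Completion G) : x ∈ compClosure (⊤ : AddSubgroup G) := by
  rw [← SetLike.mem_coe, coe_compClosure, AddSubgroup.coe_top, Set.image_univ]
  exact Completion.denseRange_coe x

theorem map_mem_compClosure {f : G →+ H} (hf : Continuous f) {W : AddSubgroup G}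
    {x : Completion G} (hx : x ∈ compClosure W) :
    Completion.map f x ∈ compClosure (W.map f) :=
  map_mem_closure Completion.continuous_map hx fun _ ⟨g, hg, e⟩ =>
    ⟨f g, AddSubgroup.mem_map_of_mem f hg, by
      rw [← e]; exact (Completion.map_coe (uniformContinuous_addMonoidHom_of_continuous hf) g).symm⟩

theorem completion_map_eq {f : G →+ H} (hf : Continuous f) :
    Completion.map f = f.completion hf := rfl

theorem preimage_zero_eq {p : AddSubgroup G → Prop} (hb : (𝓝 (0 : G)).HasBasis p fun W => (W : Set G))
    {f : G →+ H} (hf : Continuous f) (hfo : IsOpenMap f) {N : AddSubgroup G} (hN : f.ker = N) :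
    Completion.map f ⁻¹' {0} = (compClosure N : Set (Completion G)) := by
  subst hN
  refine Set.eq_of_subset_of_subset (fun x hx => ?_) ?_
  · rw [Set.mem_preimage, Set.mem_singleton_iff] at hx
    refine mem_closure_iff_nhds.2 fun U hU => ?_
    obtain ⟨W, hW, hWU⟩ := exists_compClosure_subset hb
      ((continuous_const.sub continuous_id : Continuous fun y : Completion G => x - y).continuousAt
        (show U ∈ 𝓝 (x - 0) by simpa using hU))
    have hWo : IsOpen (W : Set G) := W.isOpen_of_mem_nhds (hb.mem_of_mem hW)
    obtain ⟨g, -, hg⟩ := exists_sub_coe_mem (isOpen_compClosure hWo) (mem_compClosure_top x)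
    have h1 : ((f g : H) : Completion H) ∈ compClosure (W.map f) := by
      have := (compClosure (W.map f)).neg_mem (map_mem_compClosure hf hg)
      rwa [completion_map_eq hf, map_sub, ← completion_map_eq hf, hx,
        Completion.map_coe (uniformContinuous_addMonoidHom_of_continuous hf), zero_sub, neg_neg] at this
    obtain ⟨w, hw, hwg⟩ := mem_of_coe_mem_compClosure (hfo _ hWo) h1
    refine ⟨((g - w : G) : Completion G), ?_, g - w, ?_, rfl⟩
    · have : x - ((g - w : G) : Completion G) ∈ compClosure W := by
        rw [Completion.coe_sub, sub_sub_eq_add_sub, add_comm, add_sub_assoc]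
        exact (compClosure W).add_mem (coe_mem_compClosure hw) hg
      simpa using hWU this
    · simp [AddMonoidHom.mem_ker, hwg]
  · refine closure_minimal ?_ (isClosed_singleton.preimage Completion.continuous_map)
    rintro _ ⟨g, hg, rfl⟩
    rw [Set.mem_preimage, Set.mem_singleton_iff]
    show Completion.map f (g : Completion G) = 0
    rw [Completion.map_coe (uniformContinuous_addMonoidHom_of_continuous hf),
      show f g = 0 from hg, Completion.coe_zero]

theorem exists_map_eq {p : AddSubgroup G → Prop}
    (hb : (𝓝 (0 : G)).HasBasis p fun W => (W : Set G)) [(𝓝 (0 : G)).IsCountablyGenerated]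
    {f : G →+ H} (hf : Continuous f) (hfo : IsOpenMap f) {W : AddSubgroup G}
    (hW : IsOpen (W : Set G)) {y : Completion H} (hy : y ∈ compClosure (W.map f)) :
    ∃ x ∈ compClosure W, Completion.map f x = y := by
  obtain ⟨V₀, hV₀, hV₀b⟩ := hb.exists_antitone_subbasis
  let V : ℕ → AddSubgroup G := fun k => V₀ k ⊓ W
  have hVo : ∀ k, IsOpen (V k : Set G) := fun k =>
    ((V₀ k).isOpen_of_mem_nhds (hb.mem_of_mem (hV₀ k))).inter hW
  have hVanti : Antitone V := fun i j hij => inf_le_inf_right W (fun _ hx => hV₀b.antitone hij hx)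
  have hVb : ∀ U ∈ 𝓝 (0 : G), ∃ k, (V k : Set G) ⊆ U := fun U hU => by
    obtain ⟨k, hk⟩ := hV₀b.mem_iff.1 hU
    exact ⟨k, fun x hx => hk hx.1⟩
  have hstep : ∀ (W' : AddSubgroup G) (k : ℕ) (y : Completion H), y ∈ compClosure (W'.map f) →
      ∃ w ∈ W', y - ((f w : H) : Completion H) ∈ compClosure ((V k).map f) := by
    intro W' k y hy
    obtain ⟨_, ⟨w, hw, rfl⟩, h⟩ := exists_sub_coe_mem (isOpen_compClosure (W := (V k).map f) (hfo _ (hVo k))) hy
    exact ⟨w, hw, h⟩
  obtain ⟨w₀, hw₀, hr₀⟩ := hstep W 0 y hy
  have hstep' : ∀ k, ∀ r ∈ compClosure ((V k).map f),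
      ∃ w ∈ V k, r - ((f w : H) : Completion H) ∈ compClosure ((V (k + 1)).map f) :=
    fun k r hr => hstep _ (k + 1) r hr
  choose g hg hg' using hstep'
  let R : ∀ j, {r : Completion H // r ∈ compClosure ((V j).map f)} :=
    fun j => Nat.rec (motive := fun j => {r : Completion H // r ∈ compClosure ((V j).map f)})
      ⟨_, hr₀⟩ (fun j r => ⟨r - ((f (g j r r.2) : H) : Completion H), hg' j r r.2⟩) j
  let s : ℕ → G := fun N => w₀ + ∑ j ∈ Finset.range N, g j _ (R j).2
  have hs : ∀ N M, N ≤ M → s M - s N ∈ V N := by
    intro N M hNM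
    simp only [s, add_sub_add_left_eq_sub, ← Finset.sum_Ico_eq_sub _ hNM]
    exact (V N).sum_mem fun j hj => hVanti (Finset.mem_Ico.1 hj).1 (hg j _ (R j).2)
  have hcau : CauchySeq s := by
    refine cauchySeq_iff.2 fun U hU => ?_
    rw [uniformity_eq_comap_nhds_zero, mem_comap] at hU
    obtain ⟨U', hU', hUU⟩ := hU
    obtain ⟨k, hk⟩ := hVb U' hU'
    refine ⟨k, fun m hm n hn => hUU (hk ?_)⟩
    have := (V k).sub_mem (hs k n hn) (hs k m hm)
    rwa [sub_sub_sub_cancel_right] at this
  obtain ⟨x, hx⟩ := cauchySeq_tendsto_of_complete ((Completion.uniformContinuous_coe G).comp_cauchySeq hcau)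
  refine ⟨x, mem_closure_of_tendsto hx (Eventually.of_forall fun N => ⟨s N, ?_, rfl⟩), ?_⟩
  · exact W.add_mem hw₀ (W.sum_mem fun j _ => (hg j _ (R j).2).2)
  have h1 : Tendsto (fun N => y - ((f (s N) : H) : Completion H)) atTop
      (𝓝 (y - Completion.map f x)) := by
    refine Tendsto.const_sub y (((Completion.continuous_map.tendsto x).comp hx).congr fun N => ?_)
    exact Completion.map_coe (uniformContinuous_addMonoidHom_of_continuous hf) _
  have h2 : ∀ N, y - ((f (s N) : H) : Completion H) = (R N : Completion H) := by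
    intro N
    induction N with
    | zero => simp [s, R]
    | succ N ih =>
      have hsucc : s (N + 1) = s N + g N _ (R N).2 := by
        simp only [s, Finset.sum_range_succ, add_assoc]
      rw [hsucc, map_add, Completion.coe_add, ← sub_sub, ih]
  have h3 : Tendsto (fun N => y - ((f (s N) : H) : Completion H)) atTop (𝓝 0) := by
    refine (closed_nhds_basis (0 : Completion H)).tendsto_right_iff.2 fun C hC => ?_
    have hpre : f ⁻¹' (((↑) : H → Completion H) ⁻¹' C) ∈ 𝓝 (0 : G) := by
      refine ((Completion.continuous_coe H).comp hf).continuousAt.preimage_mem_nhds ?_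
      rw [Function.comp_apply, map_zero, Completion.coe_zero]; exact hC.1
    obtain ⟨k, hk⟩ := hVb _ hpre
    refine eventually_atTop.2 ⟨k, fun N hN => ?_⟩
    rw [h2]
    refine closure_minimal ?_ hC.2 (compClosure_mono (AddSubgroup.map_mono (hVanti hN)) (R N).2)
    rintro _ ⟨_, ⟨v, hv, rfl⟩, rfl⟩
    exact hk hv
  exact (sub_eq_zero.1 (tendsto_nhds_unique h1 h3)).symm

theorem map_surjective_and_isOpenMap {p : AddSubgroup G → Prop}
    (hb : (𝓝 (0 : G)).HasBasis p fun W => (W : Set G)) [(𝓝 (0 : G)).IsCountablyGenerated]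
    {f : G →+ H} (hf : Continuous f) (hfo : IsOpenMap f) (hs : Function.Surjective f) :
    Function.Surjective (Completion.map f) ∧ IsOpenMap (Completion.map f) := by
  refine ⟨fun y => ?_, IsOpenMap.of_nhds_le fun x U hU => ?_⟩
  · obtain ⟨x, -, hx⟩ := exists_map_eq hb hf hfo (W := ⊤) (by simp) (y := y)
      (by rw [AddSubgroup.map_top_of_surjective f hs]; exact mem_compClosure_top y)
    exact ⟨x, hx⟩
  · rw [Filter.mem_map] at hU
    obtain ⟨W, hW, hWU⟩ := exists_compClosure_subset hb
      ((continuous_const_add x).continuousAt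
        (show Completion.map f ⁻¹' U ∈ 𝓝 (x + 0) by simpa using hU))
    have hWo : IsOpen (W : Set G) := W.isOpen_of_mem_nhds (hb.mem_of_mem hW)
    refine mem_of_superset (((isOpen_compClosure (hfo _ hWo)).preimage
      (continuous_id.sub continuous_const)).mem_nhds
      (show Completion.map f x - Completion.map f x ∈ compClosure (W.map f) by simp)) fun y hy => ?_
    obtain ⟨z, hz, hzy⟩ := exists_map_eq hb hf hfo hWo hy
    have := hWU hz
    rw [Set.mem_preimage, Set.mem_preimage, completion_map_eq hf, map_add,
      ← completion_map_eq hf, hzy] at this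
    simpa using this

end Group

section Ring

theorem map_le_closure_image {A : Type u} [CommRing A] [TopologicalSpace A]
    {B : Type v} [CommRing B] [TopologicalSpace B] [IsTopologicalRing B] {φ : A →+* B}
    (hd : DenseRange φ) (K : Ideal A) : ((K.map φ : Ideal B) : Set B) ⊆ closure (φ '' (K : Set A)) := by
  let S : Ideal B :=
    { carrier := closure (φ '' (K : Set A))
      add_mem' := fun hx hy => map_mem_closure₂ continuous_add hx hy fun _ ⟨a, ha, e⟩ _ ⟨b, hb, f⟩ =>
        ⟨a + b, K.add_mem ha hb, by rw [map_add, e, f]⟩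
      zero_mem' := subset_closure ⟨0, K.zero_mem, map_zero φ⟩
      smul_mem' := fun c x hx => map_mem_closure₂ continuous_mul (hd c) hx
        fun _ ⟨a, e⟩ _ ⟨b, hb, f⟩ => ⟨a * b, K.mul_mem_left a hb, by rw [map_mul, e, f, smul_eq_mul]⟩ }
  exact (Ideal.map_le_iff_le_comap.2 fun a ha => subset_closure ⟨a, ha, rfl⟩ : K.map φ ≤ S)

variable {A : Type u} [CommRing A] [UniformSpace A] [IsUniformAddGroup A] [IsTopologicalRing A]
  [IsLinearTopology A A]

omit [IsLinearTopology A A] in
theorem closure_map_coe_eq (K : Ideal A) :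
    ((K.map Completion.coeRingHom).closure : Set (Completion A)) =
      closure (((↑) : A → Completion A) '' (K : Set A)) := by
  refine subset_antisymm (closure_minimal ?_ isClosed_closure) (_root_.closure_mono ?_)
  · exact map_le_closure_image (φ := (Completion.coeRingHom : A →+* Completion A))
      Completion.denseRange_coe K
  · rintro _ ⟨a, ha, rfl⟩
    exact Ideal.mem_map_of_mem (Completion.coeRingHom : A →+* Completion A) ha

theorem isTaut_coeRingHom :
    _root_.LinTop.IsTaut (Completion.coeRingHom : A →+* Completion A) := by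
  refine ⟨Completion.continuous_coe A, fun I hI => ?_, fun U hU => ?_⟩
  · show IsOpen ((I.map Completion.coeRingHom).closure : Set (Completion A))
    rw [closure_map_coe_eq]
    exact isOpen_compClosure (W := I.toAddSubgroup) hI
  · have h := (IsLinearTopology.hasBasis_open_ideal (R := A)).hasBasis_of_isDenseInducing
      (Completion.isDenseInducing_coe (α := A))
    rw [Completion.coe_zero] at h
    obtain ⟨I, hI, hIU⟩ := h.mem_iff.1 hU
    refine ⟨I, hI, ?_⟩
    show ((I.map Completion.coeRingHom).closure : Set (Completion A)) ⊆ U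
    rwa [closure_map_coe_eq]

theorem isLinearTopology_completion : IsLinearTopology (Completion A) (Completion A) := by
  refine IsLinearTopology.mk_of_hasBasis' (S := Ideal (Completion A)) (Completion A)
    (p := fun I : Ideal A => IsOpen (I : Set A))
    (s := fun I => (I.map Completion.coeRingHom).closure) ?_ fun s r m hm => s.mul_mem_left r hm
  have h := (IsLinearTopology.hasBasis_open_ideal (R := A)).hasBasis_of_isDenseInducing
    (Completion.isDenseInducing_coe (α := A))
  rw [Completion.coe_zero] at h
  exact h.congr (fun _ => Iff.rfl) fun I _ => (closure_map_coe_eq I).symm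

theorem isWeaklyAdic_completion (hA : _root_.LinTop.IsWeaklyPreadic A) :
    _root_.LinTop.IsWeaklyAdic (Completion A) :=
  have := isLinearTopology_completion (A := A)
  ⟨isWeaklyPreadic_of_isTaut isTaut_coeRingHom hA, inferInstance, inferInstance⟩

end Ring

end Groth.Agent.LinTopLib
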