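import Mathlib
import Groth.Agent.LinTopLib.Completion

/-!
Completion of a module with a finitely generated adic submodule topology.
-/

namespace Groth.Agent.LinTopLib

universe u v

open Filter Topology UniformSpace

variable {R : Type u} [CommRing R] {M : Type v} [AddCommGroup M] [Module R M] [UniformSpace M]
  [IsUniformAddGroup M] [UniformContinuousConstSMul R M]

/-- The closure of a submodule in the completion. -/
noncomputable def compClosureSubmodule (N : Submodule R M) : Submodule R (Completion M) :=
  { compClosure N.toAddSubgroup with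
    smul_mem' := fun c _ hx => map_mem_closure (continuous_const_smul c) hx
      fun _ ⟨m, hm, e⟩ => ⟨c • m, N.smul_mem c hm, by rw [← e]; exact Completion.coe_smul c m⟩ }

theorem mem_compClosureSubmodule {N : Submodule R M} {x : Completion M} :
    x ∈ compClosureSubmodule N ↔ x ∈ compClosure N.toAddSubgroup := Iff.rfl

theorem smul_compClosureSubmodule_le (J : Ideal R) (N : Submodule R M) :
    J • compClosureSubmodule N ≤ compClosureSubmodule (J • N) :=
  Submodule.smul_le.2 fun r hr _ hx => map_mem_closure (continuous_const_smul r) hx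
    fun _ ⟨m, hm, e⟩ => ⟨r • m, Submodule.smul_mem_smul hr hm,
      by rw [← e]; exact Completion.coe_smul r m⟩

variable {I : Ideal R} (hI : I.FG) {M' : Submodule R M}
  (hopen : ∀ n : ℕ, IsOpen ((I ^ n • M' : Submodule R M) : Set M))
  (hbasis : ∀ U ∈ 𝓝 (0 : M), ∃ n : ℕ, ((I ^ n • M' : Submodule R M) : Set M) ⊆ U)

include hI hopen hbasis in
theorem compClosureSubmodule_smul_le (n : ℕ) :
    compClosureSubmodule (I ^ n • M') ≤ I ^ n • compClosureSubmodule M' := by
  classical
  obtain ⟨s, a, ha⟩ := Submodule.fg_iff_exists_fin_generating_family.1 (hI.pow (n := n))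
  let F : (Fin s → M) →ₗ[R] M := ∑ i, a i • LinearMap.proj i
  have hF : ∀ v, F v = ∑ i, a i • v i := fun v => by simp [F]
  have hrep : ∀ N : Submodule R M, I ^ n • N ≤ (Submodule.pi Set.univ fun _ => N).map F := by
    intro N
    refine Submodule.smul_le.2 fun r hr x hx => ?_
    rw [← ha, Submodule.mem_span_range_iff_exists_fun] at hr
    obtain ⟨c, rfl⟩ := hr
    refine ⟨fun i => c i • x, fun i _ => N.smul_mem _ hx, ?_⟩
    simp only [hF, Finset.sum_smul, smul_smul, smul_eq_mul, mul_comm]
  let P : ℕ → AddSubgroup (Fin s → M) := fun m =>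
    (Submodule.pi Set.univ fun _ => I ^ m • M').toAddSubgroup
  have hb : (𝓝 (0 : Fin s → M)).HasBasis (fun W => ∃ m, P m = W) fun W => (W : Set (Fin s → M)) := by
    refine ⟨fun U => ⟨fun hU => ?_, ?_⟩⟩
    · rw [nhds_pi, Filter.mem_pi] at hU
      obtain ⟨T, -, t, ht, hTU⟩ := hU
      choose m hm using fun i => hbasis (t i) (ht i)
      refine ⟨P (Finset.univ.sup m), ⟨_, rfl⟩, fun v hv => hTU fun i _ => hm i ?_⟩
      exact Submodule.smul_mono_left (Ideal.pow_le_pow_right (Finset.le_sup (Finset.mem_univ i)))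
        (hv i trivial)
    · rintro ⟨W, ⟨m, rfl⟩, hWU⟩
      refine mem_of_superset (set_pi_mem_nhds Set.finite_univ fun i _ => ?_) hWU
      exact (hopen m).mem_nhds (zero_mem _)
  have : (𝓝 (0 : Fin s → M)).IsCountablyGenerated :=
    HasCountableBasis.isCountablyGenerated (s := fun m => (P m : Set (Fin s → M)))
      (p := fun _ : ℕ => True) ⟨hb.to_hasBasis (by rintro W ⟨m, rfl⟩; exact ⟨m, trivial, subset_rfl⟩)
        (fun m _ => ⟨P m, ⟨m, rfl⟩, subset_rfl⟩), Set.to_countable _⟩
  have hFc : Continuous F.toAddMonoidHom := by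
    have : (F.toAddMonoidHom : (Fin s → M) → M) = fun v => ∑ i, a i • v i := funext hF
    rw [this]
    exact continuous_finsetSum _ fun i _ => (continuous_apply i).const_smul (a i)
  have hFo : IsOpenMap F.toAddMonoidHom := by
    refine IsOpenMap.of_nhds_le fun x U hU => ?_
    rw [Filter.mem_map] at hU
    obtain ⟨W, ⟨m, rfl⟩, hW⟩ := hb.mem_iff.1 ((continuous_const_add x).continuousAt
      (show F.toAddMonoidHom ⁻¹' U ∈ 𝓝 (x + 0) by simpa using hU))
    refine mem_of_superset (((hopen (n + m)).preimage (continuous_id.sub continuous_const)).mem_nhds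
      (show F x - F x ∈ I ^ (n + m) • M' by simp)) fun y hy => ?_
    have hy' : y - F x ∈ I ^ n • (I ^ m • M') := by
      rw [← Submodule.smul_assoc, smul_eq_mul, ← pow_add]; exact hy
    obtain ⟨v, hv, hvy⟩ := hrep _ hy'
    have := hW hv
    simpa [hvy] using this
  have hW0 : IsOpen ((P 0) : Set (Fin s → M)) :=
    AddSubgroup.isOpen_of_mem_nhds _ (hb.mem_of_mem ⟨0, rfl⟩)
  intro y hy
  have hy' : y ∈ compClosure ((P 0).map F.toAddMonoidHom) := by
    refine compClosure_mono (fun z hz => ?_) hy
    obtain ⟨v, hv, rfl⟩ := hrep M' hz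
    exact ⟨v, fun i hi => by simpa using hv i hi, rfl⟩
  obtain ⟨x, hx, rfl⟩ := exists_map_eq hb hFc hFo hW0 hy'
  let π : Fin s → ((Fin s → M) →+ M) := fun i => Pi.evalAddMonoidHom _ i
  have hπ : ∀ i, Continuous (π i) := fun i => continuous_apply i
  have hsum : Completion.map F.toAddMonoidHom x = ∑ i, a i • Completion.map (π i) x := by
    refine congrFun (Completion.ext Completion.continuous_map
      (continuous_finsetSum _ fun i _ => Completion.continuous_map.const_smul (a i)) fun v => ?_) x
    rw [Completion.map_coe (uniformContinuous_addMonoidHom_of_continuous hFc)]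
    have e : ∀ i, a i • Completion.map (π i) (v : Completion (Fin s → M)) =
        Completion.toCompl (a i • π i v) := fun i => by
      rw [Completion.map_coe (uniformContinuous_addMonoidHom_of_continuous (hπ i))]
      exact (Completion.coe_smul (a i) _).symm
    simp only [Pi.smul_apply]
    rw [Finset.sum_congr rfl fun i _ => e i, ← map_sum]
    exact congrArg Completion.toCompl (hF v)
  rw [hsum]
  refine Submodule.sum_mem _ fun i _ => Submodule.smul_mem_smul
    (ha ▸ Submodule.subset_span ⟨i, rfl⟩) ?_
  refine compClosure_mono ?_ (map_mem_compClosure (hπ i) hx)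
  rintro _ ⟨v, hv, rfl⟩
  simpa [π] using hv i trivial

include hI hopen hbasis in
theorem completion_adic :
    (∃ M'' : Submodule R (Completion M),
      (∀ n : ℕ, IsOpen ((I ^ n • M'' : Submodule R (Completion M)) : Set (Completion M))) ∧
      ∀ U ∈ 𝓝 (0 : Completion M),
        ∃ n : ℕ, ((I ^ n • M'' : Submodule R (Completion M)) : Set (Completion M)) ⊆ U) ∧
    ∀ n : ℕ, 0 < n → Function.Surjective
        ((QuotientAddGroup.mk' (I ^ n • ⊤ : Submodule R (Completion M)).toAddSubgroup).comp
          (Completion.toCompl : M →+ Completion M)) ∧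
      ((QuotientAddGroup.mk' (I ^ n • ⊤ : Submodule R (Completion M)).toAddSubgroup).comp
          (Completion.toCompl : M →+ Completion M)).ker =
        (I ^ n • ⊤ : Submodule R M).toAddSubgroup := by
  have hopen'' : ∀ n : ℕ,
      IsOpen ((I ^ n • compClosureSubmodule M' : Submodule R (Completion M)) : Set (Completion M)) :=
    fun n => AddSubgroup.isOpen_mono
      (H₁ := compClosure (I ^ n • M').toAddSubgroup)
      (H₂ := (I ^ n • compClosureSubmodule M').toAddSubgroup)
      (fun x hx => compClosureSubmodule_smul_le hI hopen hbasis n hx) (isOpen_compClosure (hopen n))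
  refine ⟨⟨compClosureSubmodule M', hopen'', fun U hU => ?_⟩, fun n _ => ?_⟩
  · have hb : (𝓝 (0 : M)).HasBasis (fun W => ∃ m : ℕ, (I ^ m • M').toAddSubgroup = W)
        fun W => (W : Set M) := by
      refine ⟨fun U => ⟨fun hU => ?_, ?_⟩⟩
      · obtain ⟨m, hm⟩ := hbasis U hU
        exact ⟨_, ⟨m, rfl⟩, hm⟩
      · rintro ⟨W, ⟨m, rfl⟩, hWU⟩
        exact mem_of_superset ((hopen m).mem_nhds (zero_mem _)) hWU
    obtain ⟨W, ⟨m, rfl⟩, hWU⟩ := exists_compClosure_subset hb hU
    exact ⟨m, fun x hx => hWU (smul_compClosureSubmodule_le _ _ hx)⟩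
  · have hle : (I ^ n • ⊤ : Submodule R (Completion M)) ≤ compClosureSubmodule (I ^ n • ⊤) := by
      refine le_trans ?_ (smul_compClosureSubmodule_le _ _)
      exact Submodule.smul_mono le_rfl fun x _ => mem_compClosure_top x
    have hoT : IsOpen ((I ^ n • ⊤ : Submodule R (Completion M)) : Set (Completion M)) :=
      AddSubgroup.isOpen_mono (H₁ := (I ^ n • compClosureSubmodule M').toAddSubgroup)
        (H₂ := (I ^ n • ⊤ : Submodule R (Completion M)).toAddSubgroup)
        (fun x hx => Submodule.smul_mono le_rfl le_top hx) (hopen'' n)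
    have hoM : IsOpen ((I ^ n • ⊤ : Submodule R M) : Set M) :=
      AddSubgroup.isOpen_mono (H₁ := (I ^ n • M').toAddSubgroup)
        (H₂ := (I ^ n • ⊤ : Submodule R M).toAddSubgroup)
        (fun x hx => Submodule.smul_mono le_rfl le_top hx) (hopen n)
    refine ⟨fun z => ?_, AddSubgroup.ext fun m => ?_⟩
    · obtain ⟨y, rfl⟩ := QuotientAddGroup.mk'_surjective _ z
      obtain ⟨g, -, hg⟩ := exists_sub_coe_mem
        (V := (I ^ n • ⊤ : Submodule R (Completion M)).toAddSubgroup) hoT (mem_compClosure_top y)
      exact ⟨g, ((QuotientAddGroup.eq_iff_sub_mem).2 hg).symm⟩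
    · rw [AddMonoidHom.mem_ker, AddMonoidHom.comp_apply, QuotientAddGroup.mk'_apply,
        QuotientAddGroup.eq_zero_iff]
      refine ⟨fun h => mem_of_coe_mem_compClosure hoM (hle h), fun h => ?_⟩
      change (m : Completion M) ∈ (I ^ n • ⊤ : Submodule R (Completion M))
      refine Submodule.smul_induction_on (h : m ∈ I ^ n • (⊤ : Submodule R M)) (fun r hr x _ => ?_)
        fun x y hx hy => ?_
      · rw [Completion.coe_smul]; exact Submodule.smul_mem_smul hr trivial
      · rw [Completion.coe_add]; exact add_mem hx hy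

end Groth.Agent.LinTopLib
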