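import Mathlib
import Groth.Prelude.Def_W4stk3formalspacesTaut
import Groth.Agent.LinTopLib.Taut

/-!
Complete linearly topologized rings: adic topologies of finitely generated ideals, taut maps.
-/

namespace Groth.Agent.LinTopLib

universe u v

open Filter Topology

section Sums

variable {A : Type u} [CommRing A] [TopologicalSpace A] [IsTopologicalRing A] [IsLinearTopology A A]

theorem mem_closure_of_forall_mem_sup {S : Ideal A} {x : A}
    (h : ∀ K : Ideal A, IsOpen (K : Set A) → x ∈ S ⊔ K) : x ∈ S.closure := by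
  show x ∈ closure (S : Set A)
  refine mem_closure_iff_nhds_basis (nhds_translation_sub x ▸
    (IsLinearTopology.hasBasis_open_ideal (R := A)).comap _) |>.2 fun K hK => ?_
  obtain ⟨y, hy, z, hz, rfl⟩ := Submodule.mem_sup.1 (h K hK)
  exact ⟨y, hy, by simpa using K.neg_mem hz⟩

theorem eq_zero_of_forall_mem [T2Space A] {x : A}
    (h : ∀ K : Ideal A, IsOpen (K : Set A) → x ∈ K) : x = 0 := by
  by_contra hne
  obtain ⟨K, hK, hKU⟩ := (IsLinearTopology.hasBasis_open_ideal (R := A)).mem_iff.1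
    (isClosed_singleton.isOpen_compl.mem_nhds
      (show (0 : A) ∈ ({x}ᶜ : Set A) by simpa using Ne.symm hne))
  exact hKU (h K hK) rfl

end Sums

section Adic

variable {A : Type u} [CommRing A] [UniformSpace A] [IsUniformAddGroup A] [IsTopologicalRing A]
  [IsLinearTopology A A] [T2Space A] [CompleteSpace A]

/-- A finitely generated ideal with open closures of powers forming a basis defines the topology. -/
theorem isAdic_of_fg {I : Ideal A} (hfg : I.FG)
    (hopen : ∀ n : ℕ, IsOpen (closure ((I ^ n : Ideal A) : Set A)))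
    (hbasis : ∀ U ∈ 𝓝 (0 : A), ∃ n : ℕ, closure ((I ^ n : Ideal A) : Set A) ⊆ U) : IsAdic I := by
  have hcomp : IsAdicComplete I A := isAdicComplete_of_fg hfg fun U hU =>
    (hbasis U hU).imp fun _ hn => Set.Subset.trans subset_closure hn
  have hclosed : ∀ n, (I ^ n).closure ≤ I ^ n := by
    intro n x hx
    have hstep : ∀ m, ∀ z ∈ (I ^ m).closure, ∃ z' ∈ (I ^ (m + 1)).closure, z - z' ∈ I ^ m := by
      intro m z hz
      obtain ⟨y, hy, hyI⟩ := mem_closure_iff.1 hz
        ((fun y => z - y) ⁻¹' ((I ^ (m + 1)).closure : Set A))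
        ((hopen (m + 1)).preimage (continuous_const.sub continuous_id))
        (show z - z ∈ (I ^ (m + 1)).closure by simp)
      exact ⟨z - y, hy, by simpa using hyI⟩
    choose g hg hg' using hstep
    let Z : ∀ k, {z : A // z ∈ (I ^ (n + k)).closure} :=
      fun k => Nat.rec (motive := fun k => {z : A // z ∈ (I ^ (n + k)).closure}) ⟨x, hx⟩ (fun k z => ⟨g (n + k) z z.2, hg (n + k) z z.2⟩) k
    let z : ℕ → A := fun k => (Z k : A)
    have hZ : ∀ k, z k - z (k + 1) ∈ I ^ (n + k) := fun k => hg' (n + k) _ (Z k).2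
    have hz : ∀ k, z k ∈ (I ^ (n + k)).closure := fun k => (Z k).2
    have hz0 : z 0 = x := rfl
    clear_value z
    let f : ℕ → A := fun m => x - z (m - n)
    have hf : ∀ m, f (m + 1) - f m ∈ I ^ m := by
      intro m
      simp only [f]
      rcases Nat.lt_or_ge m n with h | h
      · simp [show m + 1 - n = 0 by omega, show m - n = 0 by omega]
      · obtain ⟨k, rfl⟩ := Nat.exists_eq_add_of_le h
        simpa [show n + k + 1 - n = k + 1 by omega] using hZ k
    have hcauchy : ∀ {m l}, m ≤ l →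
        f m ≡ f l [SMOD (I ^ m • ⊤ : Submodule A A)] := by
      intro m l hml
      rw [smul_eq_mul, Ideal.mul_top, SModEq.sub_mem]
      induction l, hml using Nat.le_induction with
      | base => simp
      | succ l hml ih =>
        have := (I ^ m).sub_mem ih (Ideal.pow_le_pow_right hml (hf l))
        rwa [show f m - f l - (f (l + 1) - f l) = f m - f (l + 1) by abel] at this
    obtain ⟨L, hL⟩ := IsPrecomplete.prec' f hcauchy
    simp only [smul_eq_mul, Ideal.mul_top, SModEq.sub_mem] at hL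
    have hLx : L - x = 0 := by
      refine eq_zero_of_forall_mem fun K hK => ?_
      obtain ⟨m, hm⟩ := hbasis _ (hK.mem_nhds K.zero_mem)
      have h1 : f (n + m) - L ∈ (I ^ m).closure :=
        le_closure _ (Ideal.pow_le_pow_right (Nat.le_add_left m n) (hL (n + m)))
      have h2 : z m ∈ (I ^ m).closure :=
        closure_mono (Ideal.pow_le_pow_right (Nat.le_add_left m n)) (hz m)
      refine hm ?_
      have := (I ^ m).closure.neg_mem ((I ^ m).closure.add_mem h1 h2)
      rwa [show -(f (n + m) - L + z m) = L - x by simp [f]; abel] at this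
    rw [sub_eq_zero] at hLx
    have h0 := hL n
    rw [hLx, show f n = 0 by simp [f, hz0]] at h0
    simpa using (I ^ n).neg_mem h0
  refine isAdic_iff.2 ⟨fun n => ?_, fun s hs =>
    (hbasis s hs).imp fun _ hn => Set.Subset.trans subset_closure hn⟩
  exact isOpen_mono (I := (I ^ n).closure) (hclosed n) (hopen n)

theorem isAdic_map_of_isTaut {A' : Type v} [CommRing A'] [TopologicalSpace A'] [IsTopologicalRing A']
    (hA : _root_.LinTop.IsPreadic A') {I : Ideal A'} (hI : _root_.LinTop.IsIdealOfDefinition A' I)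
    (hfg : I.FG) {φ : A' →+* A} (hφ : _root_.LinTop.IsTaut φ) : IsAdic (I.map φ) := by
  obtain ⟨J, hJ⟩ := hA
  have hIA := isAdic_iff.1 (isAdic_of_isIdealOfDefinition hJ hI)
  refine isAdic_of_fg (hfg.map φ) (fun n => ?_) fun U hU => ?_
  · rw [← Ideal.map_pow]
    exact hφ.2.1 _ (hIA.1 n)
  · obtain ⟨K, hK, hKU⟩ := hφ.2.2 U hU
    obtain ⟨n, hn⟩ := hIA.2 _ (hK.mem_nhds K.zero_mem)
    refine ⟨n, Set.Subset.trans ?_ hKU⟩
    rw [← Ideal.map_pow]
    exact closure_mono (Ideal.map_mono hn)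

theorem exists_fg_isAdic {I : Ideal A} (hA : _root_.LinTop.IsWeaklyPreadic A)
    (hI : _root_.LinTop.IsIdealOfDefinition A I)
    (hfg : (I.map (Ideal.Quotient.mk ((I ^ 2).closure))).FG) :
    ∃ J : Ideal A, J.FG ∧ IsAdic J := by
  obtain ⟨Q, hQ, hQo⟩ := exists_isOpen_closure_pow hA
  have hopen : ∀ n : ℕ, 0 < n → IsOpen (((I ^ n).closure : Ideal A) : Set A) := fun n hn =>
    isOpen_closure_pow_of_exists hQ (fun m _ => hQo m) hI hn
  have hle2 : (I ^ 2).closure ≤ I :=
    closure_le (Ideal.pow_le_self two_ne_zero) (isClosed_of_isOpen hI.1)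
  obtain ⟨J, hJfg, hJI, hIJ⟩ : ∃ J : Ideal A, J.FG ∧ J ≤ I ∧ I ≤ J ⊔ (I ^ 2).closure := by
    obtain ⟨s, hs⟩ := hfg
    choose g hg using fun z : A ⧸ (I ^ 2).closure => Ideal.Quotient.mk_surjective z
    classical
    refine ⟨Ideal.span (s.image g : Finset A), ⟨_, rfl⟩, Ideal.span_le.2 ?_, ?_⟩
    · intro x hx
      obtain ⟨z, hz, rfl⟩ := Finset.mem_image.1 hx
      have hz' : z ∈ I.map (Ideal.Quotient.mk ((I ^ 2).closure)) := hs ▸ Ideal.subset_span hz
      obtain ⟨y, hy, hyz⟩ := (Ideal.mem_map_iff_of_surjective _ Ideal.Quotient.mk_surjective).1 hz'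
      have : g z - y ∈ (I ^ 2).closure := Ideal.Quotient.eq.1 ((hg z).trans hyz.symm)
      simpa using I.add_mem (hle2 this) hy
    · intro x hx
      have := Ideal.mem_map_of_mem (Ideal.Quotient.mk ((I ^ 2).closure)) hx
      rw [← hs] at this
      have h2 : x ∈ (Ideal.span (s : Set (A ⧸ (I ^ 2).closure))).comap (Ideal.Quotient.mk _) := this
      have himg : (Ideal.span (s : Set (A ⧸ (I ^ 2).closure))) =
          (Ideal.span (s.image g : Finset A)).map (Ideal.Quotient.mk _) := by
        rw [Ideal.map_span, Finset.coe_image, Set.image_image]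
        simp [hg]
      rwa [himg, Ideal.comap_map_of_surjective' _ Ideal.Quotient.mk_surjective, Ideal.mk_ker] at h2
  have hstep : ∀ k, I ^ (k + 1) ≤ J ^ (k + 1) ⊔ (I ^ (k + 2)).closure := by
    intro k
    induction k with
    | zero => simpa using hIJ
    | succ k ih =>
      rw [pow_succ I (k + 1)]
      refine (mul_le_mul' ih hIJ).trans ?_
      rw [Ideal.sup_mul, Ideal.mul_sup, Ideal.mul_sup, ← pow_succ]
      refine sup_le (sup_le le_sup_left ?_) (sup_le ?_ ?_)
      · refine le_trans ?_ le_sup_right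
        refine (mul_le_mul_left ((Ideal.pow_right_mono hJI _).trans (le_closure _)) _).trans ?_
        refine (closure_mul_le _ _).trans (le_of_eq ?_)
        rw [← pow_add]
      · refine le_trans ?_ le_sup_right
        refine (mul_le_mul_right ((hJI.trans (le_of_eq (pow_one I).symm)).trans (le_closure _)) _).trans ?_
        refine (closure_mul_le _ _).trans (le_of_eq ?_)
        rw [← pow_add]
      · refine le_trans ?_ le_sup_right
        refine (closure_mul_le _ _).trans (closure_mono ?_)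
        rw [← pow_add]
        exact Ideal.pow_le_pow_right (by omega)
  have hiter : ∀ d k, I ^ (k + 1) ≤ J ^ (k + 1) ⊔ (I ^ (k + 1 + d)).closure := by
    intro d
    induction d with
    | zero => exact fun k => le_sup_of_le_right (le_closure _)
    | succ d ih =>
      intro k
      refine (hstep k).trans (sup_le le_sup_left ?_)
      have hcl : IsClosed ((J ^ (k + 1) ⊔ (I ^ (k + 1 + (d + 1))).closure : Ideal A) : Set A) :=
        isClosed_of_isOpen (isOpen_mono le_sup_right (hopen _ (by omega)))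
      refine closure_le ((ih (k + 1)).trans ?_) hcl
      exact sup_le_sup (Ideal.pow_le_pow_right (Nat.le_succ _))
        (le_of_eq (by rw [show k + 1 + 1 + d = k + 1 + (d + 1) by omega]))
  have hJo : ∀ n : ℕ, IsOpen (closure ((J ^ n : Ideal A) : Set A)) := fun n => by
    cases n with
    | zero => simp
    | succ k =>
      refine isOpen_mono (J := (J ^ (k + 1)).closure) (closure_le (fun x hx => ?_) isClosed_closure)
        (hopen _ k.succ_pos)
      refine mem_closure_of_forall_mem_sup fun K hK => ?_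
      obtain ⟨m, -, hm⟩ := hI.2 _ (hK.mem_nhds K.zero_mem)
      exact sup_le_sup le_rfl (closure_le ((Ideal.pow_le_pow_right (by omega)).trans hm)
        (isClosed_of_isOpen hK)) (hiter m k hx)
  refine ⟨J, hJfg, isAdic_of_fg hJfg hJo fun U hU => ?_⟩
  obtain ⟨K, hK, hKU⟩ := (IsLinearTopology.hasBasis_open_ideal (R := A)).mem_iff.1 hU
  obtain ⟨n, -, hn⟩ := hI.2 _ (hK.mem_nhds K.zero_mem)
  exact ⟨n, Set.Subset.trans (closure_le ((Ideal.pow_right_mono hJI n).trans hn)
    (isClosed_of_isOpen hK)) hKU⟩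

theorem exists_fg_isAdic_of_isTautFFlat {B : Type v} [CommRing B] [UniformSpace B]
    [IsUniformAddGroup B] [IsTopologicalRing B] [T2Space B] [CompleteSpace B]
    (hB : _root_.LinTop.IsPreadic B) {J : Ideal B} (hJ : _root_.LinTop.IsIdealOfDefinition B J)
    (hJfg : J.FG) {φ : A →+* B} (hφ : _root_.LinTop.IsTautFFlat φ) :
    ∃ I : Ideal A, I.FG ∧ IsAdic I := by
  obtain ⟨J₀, hJ₀⟩ := hB
  have : IsLinearTopology B B := isLinearTopology_of_isAdic hJ₀
  have hJad := isAdic_iff.1 (isAdic_of_isIdealOfDefinition hJ₀ hJ)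
  obtain ⟨I, hI, hIJ⟩ := exists_isIdealOfDefinition_of_isTautFFlat hφ hJ
  obtain ⟨n, hn, hnI⟩ := hJ.2 _ ((hφ.1.2.1 I hI.1).mem_nhds (Ideal.zero_mem (I.map φ).closure))
  have hle : J ^ n ≤ I.map φ ⊔ J ^ (n + 1) := fun x hx => by
    obtain ⟨y, hy, hyI⟩ := mem_closure_iff.1 (hnI hx)
      ((fun y => x - y) ⁻¹' ((J ^ (n + 1) : Ideal B) : Set B))
      ((hJad.1 (n + 1)).preimage (continuous_const.sub continuous_id)) (by simp)
    exact Submodule.mem_sup.2 ⟨y, hyI, x - y, hy, add_sub_cancel y x⟩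
  obtain ⟨S, hS⟩ := hJfg.pow (n := n)
  classical
  have hmem : ∀ x : S, ∃ F : Finset A, (F : Set A) ⊆ I ∧
      (x : B) ∈ (Ideal.span (F : Set A)).map φ ⊔ J ^ (n + 1) := fun x => by
    obtain ⟨y, hy, z, hz, hyz⟩ := Submodule.mem_sup.1 (hle (hS ▸ Ideal.subset_span x.2))
    obtain ⟨T, hTI, hT⟩ := Submodule.mem_span_finite_of_mem_span hy
    obtain ⟨F, hFI, hF⟩ := Finset.subset_set_image_iff.1 hTI
    refine ⟨F, hFI, hyz ▸ Submodule.add_mem_sup ?_ hz⟩
    rw [Ideal.map_span, ← Finset.coe_image, hF]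
    exact hT
  choose F hFI hF using hmem
  classical
  let G : Ideal A := Ideal.span ((Finset.univ.biUnion F : Finset A) : Set A)
  have hGI : G ≤ I := Ideal.span_le.2 fun a ha => by
    obtain ⟨x, -, hx⟩ := Finset.mem_biUnion.1 ha
    exact hFI x hx
  have hsub : J ^ n ≤ G.map φ ⊔ J • J ^ n := by
    rw [smul_eq_mul, ← pow_succ']
    nth_rw 1 [← hS]
    refine Ideal.span_le.2 fun x hx => ?_
    have hmono : (Ideal.span (F ⟨x, hx⟩ : Set A)).map φ ≤ G.map φ :=
      Ideal.map_mono (Ideal.span_mono fun a ha => Finset.mem_biUnion.2 ⟨_, Finset.mem_univ _, ha⟩)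
    exact (sup_le_sup hmono le_rfl : _ ≤ G.map φ ⊔ J ^ (n + 1)) (hF ⟨x, hx⟩)
  have hGn : J ^ n ≤ G.map φ := Submodule.le_of_le_smul_of_le_jacobson_bot hJfg.pow
    (le_jacobson_bot fun x hx => isTopologicallyNilpotent_of_mem hJ hx) hsub
  have hGfg : G.FG := ⟨_, rfl⟩
  refine ⟨G, hGfg, isAdic_of_fg hGfg (fun k => ?_) fun U hU => ?_⟩
  · have hopen : IsOpen (((G ^ k).map φ).closure : Set B) := by
      refine isOpen_mono (J := ((G ^ k).map φ).closure) ?_ (hJad.1 (n * k))
      rw [pow_mul, Ideal.map_pow]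
      exact (Ideal.pow_right_mono hGn k).trans (le_closure _)
    refine isOpen_mono (J := (G ^ k).closure) (I := ((G ^ k).map φ).closure.comap φ)
      (fun x hx => mem_closure_of_forall_mem_sup fun K hK => ?_) (hopen.preimage hφ.1.1)
    exact comap_closure_map hφ (isOpen_mono le_sup_right hK)
      (show φ x ∈ ((G ^ k ⊔ K).map φ).closure from closure_mono (Ideal.map_mono le_sup_left) hx)
  · obtain ⟨K, hK, hKU⟩ := (IsLinearTopology.hasBasis_open_ideal (R := A)).mem_iff.1 hU
    obtain ⟨m, -, hm⟩ := hI.2 _ (hK.mem_nhds K.zero_mem)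
    exact ⟨m, Set.Subset.trans (closure_le ((Ideal.pow_right_mono hGI m).trans hm)
      (isClosed_of_isOpen hK)) hKU⟩

end Adic

section Dense

variable {A : Type u} [CommRing A] [UniformSpace A] [IsUniformAddGroup A] [IsTopologicalRing A]
  [IsLinearTopology A A] [T2Space A] [CompleteSpace A]
  {B : Type v} [CommRing B] [UniformSpace B] [IsUniformAddGroup B] [IsTopologicalRing B]
  [IsLinearTopology B B] [T2Space B] {φ : A →+* B}

omit [T2Space A] [IsLinearTopology B B] in
theorem surjective_of_isTaut_of_denseRange (hA : (𝓝 (0 : A)).IsCountablyGenerated)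
    (hφ : _root_.LinTop.IsTaut φ) (hd : DenseRange φ) :
    Function.Surjective φ ∧ IsOpenQuotientMap φ ∧ CompleteSpace B := by
  obtain ⟨I₁, hanti, ho, hb⟩ := exists_antitone_basis hA
  have hdense : ∀ K : Ideal A, ((K.map φ).closure : Set B) ⊆ closure (φ '' (K : Set A)) := by
    intro K
    let S : Ideal B :=
      { carrier := closure (φ '' (K : Set A))
        add_mem' := fun hx hy => map_mem_closure₂ continuous_add hx hy fun _ ⟨a, ha, e⟩ _ ⟨b, hb, f⟩ =>
          ⟨a + b, K.add_mem ha hb, by rw [map_add, e, f]⟩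
        zero_mem' := subset_closure ⟨0, K.zero_mem, map_zero φ⟩
        smul_mem' := fun c x hx => map_mem_closure₂ continuous_mul (hd c) hx
          fun _ ⟨a, e⟩ _ ⟨b, hb, f⟩ => ⟨a * b, K.mul_mem_left a hb, by rw [map_mul, e, f, smul_eq_mul]⟩ }
    exact closure_le (J := S) (Ideal.map_le_iff_le_comap.2 fun a ha => subset_closure ⟨a, ha, rfl⟩)
      isClosed_closure
  have hlim : ∀ {u : ℕ → B}, (∀ k, u k ∈ ((I₁ k).map φ).closure) →
      Tendsto u atTop (𝓝 0) := by
    intro u hu
    refine tendsto_def.2 fun U hU => ?_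
    obtain ⟨J, hJ, hJU⟩ := hφ.2.2 U hU
    obtain ⟨k, -, hk⟩ := hb.mem_iff.1 (hJ.mem_nhds J.zero_mem)
    exact eventually_atTop.2 ⟨k, fun m hm =>
      hJU (closure_mono (Ideal.map_mono ((hanti hm).trans hk)) (hu m))⟩
  have hstep : ∀ (K : Ideal A) (k : ℕ), ∀ b ∈ (K.map φ).closure,
      ∃ a ∈ K, b - φ a ∈ ((I₁ k).map φ).closure := by
    intro K k b hbK
    obtain ⟨_, hy, a, ha, rfl⟩ := mem_closure_iff.1 (hdense K hbK)
      ((fun y => b - y) ⁻¹' (((I₁ k).map φ).closure : Set B))
      ((hφ.2.1 _ (ho k)).preimage (continuous_const.sub continuous_id))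
      (show b - b ∈ ((I₁ k).map φ).closure by simp)
    exact ⟨a, ha, hy⟩
  have hlift : ∀ K : Ideal A, IsOpen (K : Set A) → ∀ b ∈ (K.map φ).closure, ∃ a ∈ K, φ a = b := by
    intro K hK b hbK
    obtain ⟨k₀, -, hk₀⟩ := hb.mem_iff.1 (hK.mem_nhds K.zero_mem)
    obtain ⟨a₀, ha₀, hr₀⟩ := hstep K k₀ b hbK
    have hstep' : ∀ k, ∀ r ∈ ((I₁ k).map φ).closure,
        ∃ a ∈ I₁ k, r - φ a ∈ ((I₁ (k + 1)).map φ).closure := fun k r hr => hstep _ (k + 1) r hr
    choose g hg hg' using hstep'
    let R : ∀ j, {r : B // r ∈ ((I₁ (k₀ + j)).map φ).closure} :=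
      fun j => Nat.rec (motive := fun j => {r : B // r ∈ ((I₁ (k₀ + j)).map φ).closure}) ⟨b - φ a₀, hr₀⟩ (fun j r => ⟨r - φ (g (k₀ + j) r r.2), hg' (k₀ + j) r r.2⟩) j
    let c : ℕ → A := fun j => g (k₀ + j) _ (R j).2
    have hc : ∀ j, c j ∈ I₁ (k₀ + j) := fun j => hg (k₀ + j) _ (R j).2
    have hsum : Summable c := summable_of_tendsto <| tendsto_def.2 fun U hU => by
      obtain ⟨k, -, hk⟩ := hb.mem_iff.1 hU
      exact eventually_atTop.2 ⟨k, fun m hm => hk (hanti (hm.trans (Nat.le_add_left m k₀)) (hc m))⟩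
    refine ⟨a₀ + ∑' j, c j, K.add_mem ha₀ (hasSum_mem hsum.hasSum (isClosed_of_isOpen hK)
      fun j => hk₀ (hanti (Nat.le_add_right k₀ j) (hc j))), ?_⟩
    have h1 : Tendsto (fun N => b - φ (a₀ + ∑ j ∈ Finset.range N, c j)) atTop
        (𝓝 (b - φ (a₀ + ∑' j, c j))) :=
      ((hφ.1.tendsto _).comp (hsum.hasSum.tendsto_sum_nat.const_add a₀)).const_sub b
    have h2 : ∀ N, b - φ (a₀ + ∑ j ∈ Finset.range N, c j) = (R N : B) := by
      intro N
      induction N with
      | zero => simp [R]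
      | succ N ih =>
        rw [Finset.sum_range_succ, ← add_assoc, map_add, ← sub_sub, ih]
    have h3 : Tendsto (fun N => b - φ (a₀ + ∑ j ∈ Finset.range N, c j)) atTop (𝓝 0) := by
      simp only [h2]
      exact hlim fun N =>
        closure_mono (Ideal.map_mono (hanti (Nat.le_add_left N k₀))) (R N).2
    exact (sub_eq_zero.1 (tendsto_nhds_unique h1 h3)).symm
  have hsurj : Function.Surjective φ := fun b => by
    obtain ⟨a, -, ha⟩ := hlift ⊤ (by simp) b (by rw [Ideal.map_top]; exact subset_closure trivial)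
    exact ⟨a, ha⟩
  have hopen : IsOpenMap φ := by
    refine IsOpenMap.of_nhds_le fun x => ?_
    intro V hV
    rw [mem_map] at hV
    have h0 : (fun y => x + y) ⁻¹' (φ ⁻¹' V) ∈ 𝓝 (0 : A) :=
      (continuous_const_add x).continuousAt (by simpa using hV)
    obtain ⟨K, hK, hKV⟩ := (IsLinearTopology.hasBasis_open_ideal (R := A)).mem_iff.1 h0
    refine mem_of_superset (((hφ.2.1 K hK).preimage (continuous_id.sub continuous_const)).mem_nhds
      (show φ x - φ x ∈ (K.map φ).closure by simp)) fun y hy => ?_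
    obtain ⟨a, ha, hay⟩ := hlift K hK _ hy
    have hV' := hKV ha
    simpa [hay] using hV'
  refine ⟨hsurj, ⟨hsurj, hφ.1, hopen⟩, ?_⟩
  have : (𝓝 (0 : A)).IsCountablyGenerated := hA
  have : FirstCountableTopology A :=
    ⟨fun a => by rw [← map_add_left_nhds_zero]; exact Filter.map.isCountablyGenerated _ _⟩
  have hquot : Topology.IsQuotientMap φ := hopen.isQuotientMap hφ.1 hsurj
  let e : (A ⧸ φ.toAddMonoidHom.ker) ≃+ B :=
    QuotientAddGroup.quotientKerEquivOfSurjective φ.toAddMonoidHom hsurj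
  have he : ∀ a : A, e (a : A ⧸ φ.toAddMonoidHom.ker) = φ a := fun _ => rfl
  let := IsTopologicalAddGroup.rightUniformSpace (A ⧸ φ.toAddMonoidHom.ker)
  have : IsUniformAddGroup (A ⧸ φ.toAddMonoidHom.ker) := isUniformAddGroup_of_addCommGroup
  have : CompleteSpace (A ⧸ φ.toAddMonoidHom.ker) := QuotientAddGroup.completeSpace_right A _
  have hc1 : Continuous e := QuotientAddGroup.isQuotientMap_mk _ |>.continuous_iff.2 hφ.1
  have hc2 : Continuous e.symm := hquot.continuous_iff.2 <| by
    have : e.symm ∘ φ = ((↑) : A → A ⧸ φ.toAddMonoidHom.ker) := funext fun a => by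
      rw [Function.comp_apply, ← he, AddEquiv.symm_apply_apply]
    rw [this]
    exact continuous_quot_mk
  let E : (A ⧸ φ.toAddMonoidHom.ker) ≃ᵤ B :=
    { toEquiv := e.toEquiv
      uniformContinuous_toFun := uniformContinuous_addMonoidHom_of_continuous (f := e.toAddMonoidHom) hc1
      uniformContinuous_invFun :=
        uniformContinuous_addMonoidHom_of_continuous (f := e.symm.toAddMonoidHom) hc2 }
  exact E.completeSpace_iff.1 inferInstance

end Dense

end Groth.Agent.LinTopLib
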